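import Mathlib
import Cfsg.Prelude.Def_Characters
import Cfsg.Agent.Lib.Char.Rep

/-! Every character of a finite group is afforded by an isometric representation on a
Euclidean space; common eigenvectors of commuting operators. -/

set_option autoImplicit false

namespace CfsgLib.ChDeg

open Cfsg Module
open scoped InnerProductSpace

/-- Every character of a finite group is afforded by a norm-preserving representation. -/
theorem exists_isometric_rep {G : Type*} [Group G] [Finite G] {χ : G → ℂ}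
    (hχ : IsCharacter G χ) :
    ∃ (n : ℕ) (ρ : Representation ℂ G (EuclideanSpace ℂ (Fin n))),
      ρ.character = χ ∧ ∀ g v, ‖ρ g v‖ = ‖v‖ := by
  classical
  obtain ⟨n, ρ, rfl⟩ := hχ
  have : Fintype G := Fintype.ofFinite G
  let T : (Fin n → ℂ) →ₗ[ℂ] EuclideanSpace ℂ (G × Fin n) :=
    (WithLp.linearEquiv 2 ℂ (G × Fin n → ℂ)).symm.toLinearMap ∘ₗ
      LinearMap.pi fun x : G × Fin n => (LinearMap.proj x.2) ∘ₗ ρ x.1
  have hT : ∀ v x, T v x = ρ x.1 v x.2 := fun v x => rfl
  have hTi : Function.Injective T := by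
    rw [← LinearMap.ker_eq_bot, eq_bot_iff]
    intro v hv
    rw [LinearMap.mem_ker] at hv
    ext i
    have := hT v (1, i)
    rw [hv] at this
    simpa using this.symm
  have hn : ∀ g v, ‖T (ρ g v)‖ = ‖T v‖ := by
    intro g v
    rw [EuclideanSpace.norm_eq, EuclideanSpace.norm_eq]
    congr 1
    refine Fintype.sum_equiv ((Equiv.mulRight g).prodCongr (Equiv.refl _)) _ _ fun x => ?_
    rw [hT, hT]
    simp
  let W := LinearMap.range T
  let e1 : (Fin n → ℂ) ≃ₗ[ℂ] W := LinearEquiv.ofInjective T hTi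
  let e2 := (stdOrthonormalBasis ℂ W).repr
  let e := e1.trans e2.toLinearEquiv
  have he : ∀ v, ‖e v‖ = ‖T v‖ := by
    intro v
    change ‖e2 (e1 v)‖ = _
    rw [e2.norm_map]
    rfl
  refine ⟨_, Char.repTransport ρ e, (Representation.char_iso (Char.repTransportEquiv ρ e)).symm,
    fun g v => ?_⟩
  rw [Char.repTransport_apply, he, hn, ← he, LinearEquiv.apply_symm_apply]

section Eigen

variable {G : Type*} [Group G] {V : Type*} [AddCommGroup V] [Module ℂ V] [FiniteDimensional ℂ V]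

/-- A nonzero subspace invariant under a set of commuting operators of the representation holds a
common eigenvector. -/
theorem exists_common_eigenvector_in (ρ : Representation ℂ G V) (A : Set G)
    (hA : ∀ a ∈ A, ∀ b ∈ A, a * b = b * a) (U : Submodule ℂ V) (hU0 : U ≠ ⊥)
    (hU : ∀ a ∈ A, ∀ v ∈ U, ρ a v ∈ U) :
    ∃ v ∈ U, v ≠ 0 ∧ ∀ a ∈ A, ∃ c : ℂ, ρ a v = c • v := by
  classical
  have hex : ∃ n : ℕ, ∃ W : Submodule ℂ V, W ≤ U ∧ W ≠ ⊥ ∧ (∀ a ∈ A, ∀ v ∈ W, ρ a v ∈ W) ∧
      finrank ℂ W = n := ⟨_, U, le_rfl, hU0, hU, rfl⟩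
  obtain ⟨W, hWU, hW0, hW, hn⟩ := Nat.find_spec hex
  have : Nontrivial W := Submodule.nontrivial_iff_ne_bot.mpr hW0
  obtain ⟨v, hv, hv0⟩ := Submodule.exists_mem_ne_zero_of_ne_bot hW0
  refine ⟨v, hWU hv, hv0, fun a ha => ?_⟩
  obtain ⟨c, hc⟩ := Module.End.exists_eigenvalue ((ρ a).restrict (hW a ha))
  obtain ⟨w, hw⟩ := hc.exists_hasEigenvector
  let W' : Submodule ℂ V := W ⊓ Module.End.eigenspace (ρ a) c
  have hW'0 : W' ≠ ⊥ := by
    intro h
    have : (w : V) ∈ W' := ⟨w.2, by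
      have := congrArg Subtype.val hw.apply_eq_smul
      exact Module.End.mem_eigenspace_iff.mpr this⟩
    rw [h, Submodule.mem_bot] at this
    exact hw.2 (Subtype.ext this)
  have hW' : ∀ b ∈ A, ∀ v ∈ W', ρ b v ∈ W' := by
    intro b hb u hu
    refine ⟨hW b hb u hu.1, ?_⟩
    have h2 := Module.End.mem_eigenspace_iff.mp hu.2
    apply Module.End.mem_eigenspace_iff.mpr
    rw [← Module.End.mul_apply, ← map_mul, hA a ha b hb, map_mul, Module.End.mul_apply, h2,
      map_smul]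
  have hle := Nat.find_min' hex ⟨W', inf_le_left.trans hWU, hW'0, hW', rfl⟩
  rw [← hn] at hle
  have heq : W' = W := Submodule.eq_of_le_of_finrank_le inf_le_left hle
  have : v ∈ W' := heq ▸ hv
  exact ⟨c, Module.End.mem_eigenspace_iff.mp this.2⟩

end Eigen

section Iso

variable {G : Type*} [Group G] {E : Type*} [NormedAddCommGroup E] [InnerProductSpace ℂ E]

theorem inner_rep_rep (ρ : Representation ℂ G E) (hρ : ∀ g v, ‖ρ g v‖ = ‖v‖) (g : G) (v w : E) :
    ⟪ρ g v, ρ g w⟫_ℂ = ⟪v, w⟫_ℂ :=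
  (LinearMap.norm_map_iff_inner_map_map (ρ g)).1 (hρ g) v w

theorem inner_rep_left (ρ : Representation ℂ G E) (hρ : ∀ g v, ‖ρ g v‖ = ‖v‖) (g : G) (v w : E) :
    ⟪ρ g v, w⟫_ℂ = ⟪v, ρ g⁻¹ w⟫_ℂ := by
  rw [← inner_rep_rep ρ hρ g v, ← Module.End.mul_apply, ← map_mul, mul_inv_cancel, map_one]
  rfl

theorem norm_eq_one_of_eigen (ρ : Representation ℂ G E) (hρ : ∀ g v, ‖ρ g v‖ = ‖v‖) {g : G}
    {v : E} (hv : v ≠ 0) {c : ℂ} (h : ρ g v = c • v) : ‖c‖ = 1 := by
  have := hρ g v
  rw [h, norm_smul] at this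
  exact (mul_eq_right₀ (norm_ne_zero_iff.2 hv)).1 this

/-- Eigenvectors for different eigenvalues are orthogonal. -/
theorem inner_eq_zero_of_eigen (ρ : Representation ℂ G E) (hρ : ∀ g v, ‖ρ g v‖ = ‖v‖) {g : G}
    {v w : E} {c d : ℂ} (hv : ρ g v = c • v) (hw : ρ g w = d • w) (hcd : c ≠ d) :
    ⟪v, w⟫_ℂ = 0 := by
  by_cases hv0 : v = 0
  · simp [hv0]
  have h1 := inner_rep_rep ρ hρ g v w
  rw [hv, hw, inner_smul_left, inner_smul_right, ← mul_assoc] at h1
  by_contra h0
  have h2 : (starRingEnd ℂ) c * d = 1 := (mul_eq_right₀ h0).1 h1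
  have h3 : (starRingEnd ℂ) c * c = 1 := by
    rw [Complex.conj_mul', norm_eq_one_of_eigen ρ hρ hv0 hv]; simp
  apply hcd
  calc c = c * ((starRingEnd ℂ) c * d) := by rw [h2, mul_one]
    _ = ((starRingEnd ℂ) c * c) * d := by ring
    _ = d := by rw [h3, one_mul]

/-- The orthogonal complement of a subspace invariant under `g⁻¹` is invariant under `g`. -/
theorem orthogonal_invariant (ρ : Representation ℂ G E) (hρ : ∀ g v, ‖ρ g v‖ = ‖v‖) {g : G}
    {K : Submodule ℂ E} (hK : ∀ v ∈ K, ρ g⁻¹ v ∈ K) : ∀ v ∈ Kᗮ, ρ g v ∈ Kᗮ := by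
  intro v hv
  rw [Submodule.mem_orthogonal'] at hv ⊢
  intro u hu
  rw [inner_rep_left ρ hρ]
  exact hv _ (hK u hu)

variable [FiniteDimensional ℂ E]

/-- The representation as continuous linear maps. -/
noncomputable def repCLM (ρ : Representation ℂ G E) : G →* (E →L[ℂ] E) where
  toFun g := LinearMap.toContinuousLinearMap (ρ g)
  map_one' := by ext v; simp
  map_mul' a b := by ext v; simp

theorem repCLM_apply (ρ : Representation ℂ G E) (g : G) (v : E) : repCLM ρ g v = ρ g v := rfl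

theorem norm_repCLM_le (ρ : Representation ℂ G E) (hρ : ∀ g v, ‖ρ g v‖ = ‖v‖) (g : G) :
    ‖repCLM ρ g‖ ≤ 1 :=
  ContinuousLinearMap.opNorm_le_bound _ zero_le_one fun v => by
    rw [repCLM_apply, hρ, one_mul]

theorem star_repCLM (ρ : Representation ℂ G E) (hρ : ∀ g v, ‖ρ g v‖ = ‖v‖) (g : G) :
    haveI : CompleteSpace E := FiniteDimensional.complete ℂ E
    star (repCLM ρ g) = repCLM ρ g⁻¹ := by
  have : CompleteSpace E := FiniteDimensional.complete ℂ E
  rw [ContinuousLinearMap.star_eq_adjoint, eq_comm, ContinuousLinearMap.eq_adjoint_iff]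
  intro x y
  rw [repCLM_apply, repCLM_apply, inner_rep_left ρ hρ, inv_inv]

/-- The norm of `ρ g - c` is attained at an eigenvalue. -/
theorem exists_eigen_norm_eq [Nontrivial E] (ρ : Representation ℂ G E)
    (hρ : ∀ g v, ‖ρ g v‖ = ‖v‖) (g : G) (c : ℂ) :
    ∃ (μ : ℂ) (v : E), v ≠ 0 ∧ ρ g v = μ • v ∧ ‖repCLM ρ g - c • 1‖ = ‖μ - c‖ := by
  have : CompleteSpace E := FiniteDimensional.complete ℂ E
  set T : E →L[ℂ] E := repCLM ρ g - c • 1 with hT
  have hn : IsStarNormal T := by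
    constructor
    rw [hT, star_sub, star_repCLM ρ hρ, star_smul, star_one]
    have h1 : Commute (repCLM ρ g⁻¹) (repCLM ρ g) := (Commute.refl g).inv_left.map _
    apply Commute.sub_left <;> apply Commute.sub_right
    · exact h1
    · exact (Commute.one_right _).smul_right _
    · exact (Commute.one_left _).smul_left _
    · exact ((Commute.one_left _).smul_left _)
  obtain ⟨z, hz, hz'⟩ := spectrum.exists_nnnorm_eq_spectralRadius T
  rw [IsStarNormal.spectralRadius_eq_nnnorm T, ENNReal.coe_inj] at hz'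
  have hni : ¬ Function.Injective (algebraMap ℂ (E →L[ℂ] E) z - T) := by
    intro hi
    apply hz
    rw [spectrum.mem_resolventSet_iff, ContinuousLinearMap.isUnit_iff_bijective]
    exact ⟨hi, LinearMap.surjective_of_injective
      (f := (algebraMap ℂ (E →L[ℂ] E) z - T : E →L[ℂ] E).toLinearMap) hi⟩
  rw [injective_iff_map_eq_zero] at hni
  push Not at hni
  obtain ⟨v, hv, hv0⟩ := hni
  refine ⟨z + c, v, hv0, ?_, ?_⟩
  · simp only [hT, sub_apply, Algebra.algebraMap_eq_smul_one,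
      smul_apply, one_apply_eq_self, repCLM_apply] at hv
    rw [add_smul]
    linear_combination (norm := module) -hv
  · rw [add_sub_cancel_right]
    exact (congrArg NNReal.toReal hz').symm

end Iso

end CfsgLib.ChDeg
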