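import Mathlib
import Cfsg.Prelude.Def_Blocks
import Cfsg.Agent.Lib.ChDeg.Unitarize

/-! Frobenius' theorem on finite linear groups (Isaacs 14.13, 14.15): elements close to a scalar
commute with elements close to the identity, and a finite linear group of degree `n` has a normal
abelian subgroup meeting every abelian subgroup in index at most `12 ^ n`. -/

set_option autoImplicit false

namespace CfsgLib.ChDeg

open Cfsg Module
open scoped InnerProductSpace

section Iso

variable {G : Type*} [Group G] {E : Type*} [NormedAddCommGroup E] [InnerProductSpace ℂ E]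
  [FiniteDimensional ℂ E]

theorem eq_zero_of_inner_rep_eq_zero (ρ : Representation ℂ G E) {b : G}
    (hb : ‖repCLM ρ b - 1‖ < 1) {v : E} (h : ⟪v, ρ b v⟫_ℂ = 0) : v = 0 := by
  by_contra hv
  have hv' : 0 < ‖v‖ := norm_pos_iff.2 hv
  have h1 : ⟪v, (repCLM ρ b - 1) v⟫_ℂ = -((‖v‖ : ℂ) ^ 2) := by
    rw [sub_apply, inner_sub_right, repCLM_apply, h, one_apply_eq_self, inner_self_eq_norm_sq_to_K]
    simp
  have h2 := norm_inner_le_norm (𝕜 := ℂ) v ((repCLM ρ b - 1) v)
  have h3 := (repCLM ρ b - 1).le_opNorm v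
  rw [h1, norm_neg, norm_pow, Complex.norm_real, norm_norm] at h2
  have h4 : ‖repCLM ρ b - 1‖ * ‖v‖ < 1 * ‖v‖ := mul_lt_mul_of_pos_right hb hv'
  nlinarith

/-- If `a` commutes with `b a b⁻¹` and `b` is close to the identity then they act equally. -/
theorem rep_conj_eq_of_commute (ρ : Representation ℂ G E) (hρ : ∀ g v, ‖ρ g v‖ = ‖v‖) {a b : G}
    (hb : ‖repCLM ρ b - 1‖ < 1) (hc : Commute a (b * a * b⁻¹)) : ρ a = ρ (b * a * b⁻¹) := by
  set a' := b * a * b⁻¹ with ha'
  let K : Submodule ℂ E := LinearMap.ker (ρ a - ρ a')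
  have hK : ∀ v, v ∈ K ↔ ρ a v = ρ a' v := fun v => by
    simp only [K, LinearMap.mem_ker, LinearMap.sub_apply, sub_eq_zero]
  have hinv : ∀ x : G, Commute x a → Commute x a' → ∀ v ∈ K, ρ x v ∈ K := by
    intro x h1 h2 v hv
    rw [hK] at hv ⊢
    rw [← Module.End.mul_apply, ← map_mul, ← h1.eq, map_mul, Module.End.mul_apply, hv,
      ← Module.End.mul_apply, ← map_mul, h2.eq, map_mul, Module.End.mul_apply]
  by_cases h0 : Kᗮ = ⊥
  · rw [Submodule.orthogonal_eq_bot_iff] at h0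
    ext v
    exact (hK v).1 (h0 ▸ Submodule.mem_top)
  exfalso
  obtain ⟨w, hwK, hw0, hw⟩ := exists_common_eigenvector_in ρ {a, a'} (by
    rintro x (rfl | rfl) y (rfl | rfl)
    · rfl
    · exact hc.eq
    · exact hc.eq.symm
    · rfl) Kᗮ h0 (by
    rintro x (rfl | rfl)
    · exact orthogonal_invariant ρ hρ (hinv _ (Commute.refl _).inv_left hc.inv_left)
    · exact orthogonal_invariant ρ hρ (hinv _ hc.symm.inv_left (Commute.refl _).inv_left))
  obtain ⟨l, hl⟩ := hw a (by simp)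
  obtain ⟨m, hm⟩ := hw a' (by simp)
  have hv : ρ a (ρ b⁻¹ w) = m • ρ b⁻¹ w := by
    rw [← map_smul, ← hm, ← Module.End.mul_apply, ← Module.End.mul_apply, ← map_mul, ← map_mul,
      ha']
    congr 2
    group
  have hbw : ρ b (ρ b⁻¹ w) = w := by
    rw [← Module.End.mul_apply, ← map_mul, mul_inv_cancel, map_one]; rfl
  by_cases hlm : m = l
  · have : w ∈ K := (hK w).2 (by rw [hl, hm, hlm])
    have h2 : w ∈ K ⊓ Kᗮ := ⟨this, hwK⟩
    rw [Submodule.inf_orthogonal_eq_bot] at h2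
    exact hw0 h2
  · have h1 := inner_eq_zero_of_eigen ρ hρ hv hl hlm
    have h2 := eq_zero_of_inner_rep_eq_zero ρ hb (v := ρ b⁻¹ w) (by rw [hbw]; exact h1)
    rw [h2, map_zero] at hbw
    exact hw0 hbw.symm

theorem norm_commutator_sub_one_le (ρ : Representation ℂ G E) (hρ : ∀ g v, ‖ρ g v‖ = ‖v‖)
    (a b : G) (c : ℂ) :
    ‖repCLM ρ (a * b * a⁻¹ * b⁻¹) - 1‖ ≤ 2 * ‖repCLM ρ a - c • 1‖ * ‖repCLM ρ b - 1‖ := by
  set A := repCLM ρ a - c • 1 with hA
  set B := repCLM ρ b - 1 with hB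
  have h1 : repCLM ρ (a * b * a⁻¹ * b⁻¹) - 1 = (A * B - B * A) * repCLM ρ (a⁻¹ * b⁻¹) := by
    have h2 : A * B - B * A = repCLM ρ a * repCLM ρ b - repCLM ρ b * repCLM ρ a := by
      simp only [hA, hB, sub_mul, mul_sub, smul_mul_assoc, mul_smul_comm, one_mul, mul_one,
        smul_sub]
      abel
    rw [h2, sub_mul, ← map_mul, ← map_mul, ← map_mul, ← map_mul]
    congr 2
    · group
    · rw [show b * a * (a⁻¹ * b⁻¹) = 1 by group, map_one]
  rw [h1]
  calc ‖(A * B - B * A) * repCLM ρ (a⁻¹ * b⁻¹)‖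
      ≤ ‖A * B - B * A‖ * ‖repCLM ρ (a⁻¹ * b⁻¹)‖ := norm_mul_le _ _
    _ ≤ ‖A * B - B * A‖ * 1 := by gcongr; exact norm_repCLM_le ρ hρ _
    _ ≤ ‖A * B‖ + ‖B * A‖ := by rw [mul_one]; exact norm_sub_le _ _
    _ ≤ ‖A‖ * ‖B‖ + ‖B‖ * ‖A‖ := add_le_add (norm_mul_le _ _) (norm_mul_le _ _)
    _ = _ := by ring

/-- Frobenius: an element within `1/2` of a scalar commutes with every element within `1` of
the identity. -/
theorem commute_of_near [Finite G] (ρ : Representation ℂ G E) (hρ : ∀ g v, ‖ρ g v‖ = ‖v‖)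
    (hinj : Function.Injective ρ) {a : G} {c : ℂ} (ha : ‖repCLM ρ a - c • 1‖ < 1 / 2)
    {b : G} (hb : ‖repCLM ρ b - 1‖ < 1) : Commute a b := by
  by_contra hab
  obtain ⟨b, ⟨hb, hab⟩, hmin⟩ := Set.exists_min_image
    {b : G | ‖repCLM ρ b - 1‖ < 1 ∧ ¬ Commute a b} (fun b => ‖repCLM ρ b - 1‖) (Set.toFinite _)
    ⟨b, hb, hab⟩
  have hpos : 0 < ‖repCLM ρ b - 1‖ := by
    rw [norm_pos_iff, sub_ne_zero]
    intro h
    apply hab
    have : b = 1 := hinj (by
      ext v
      have := congrArg (fun T : E →L[ℂ] E => T v) h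
      simpa [repCLM_apply] using this)
    rw [this]; exact Commute.one_right a
  have h1 := norm_commutator_sub_one_le ρ hρ a b c
  have h2 : ‖repCLM ρ (a * b * a⁻¹ * b⁻¹) - 1‖ < ‖repCLM ρ b - 1‖ := by nlinarith
  have h3 : Commute a (a * b * a⁻¹ * b⁻¹) := by
    by_contra h
    exact absurd (hmin _ ⟨h2.trans hb, h⟩) (not_le.2 h2)
  have h4 : Commute a (b * a * b⁻¹) := by
    have h5 : Commute a (a⁻¹ * (a * b * a⁻¹ * b⁻¹))⁻¹ :=
      ((Commute.refl a).inv_right.mul_right h3).inv_right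
    rwa [show (a⁻¹ * (a * b * a⁻¹ * b⁻¹))⁻¹ = b * a * b⁻¹ by group] at h5
  have h6 := hinj (rep_conj_eq_of_commute ρ hρ hb h4)
  apply hab
  calc a * b = (b * a * b⁻¹) * b := by rw [← h6]
    _ = b * a := by group

theorem norm_repCLM_conj_sub (ρ : Representation ℂ G E) (hρ : ∀ g v, ‖ρ g v‖ = ‖v‖)
    (a g : G) (c : ℂ) : ‖repCLM ρ (g * a * g⁻¹) - c • 1‖ ≤ ‖repCLM ρ a - c • 1‖ := by
  have h1 : repCLM ρ (g * a * g⁻¹) - c • 1 = repCLM ρ g * (repCLM ρ a - c • 1) * repCLM ρ g⁻¹ := by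
    rw [mul_sub, sub_mul, mul_smul_comm, smul_mul_assoc, mul_one, ← map_mul, ← map_mul, ← map_mul,
      mul_inv_cancel, map_one]
  rw [h1]
  calc _ ≤ ‖repCLM ρ g‖ * ‖repCLM ρ a - c • 1‖ * ‖repCLM ρ g⁻¹‖ := norm_mul₃_le
    _ ≤ 1 * ‖repCLM ρ a - c • 1‖ * 1 := by
      gcongr
      · exact norm_repCLM_le ρ hρ _
      · exact norm_repCLM_le ρ hρ _
    _ = _ := by ring

end Iso

/-- The index of the arc of length `π / 6` holding `z`. -/
noncomputable def arcIdx (z : ℂ) : ℤ := ⌈(Complex.arg z + Real.pi) * 6 / Real.pi⌉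

theorem arcIdx_mem (z : ℂ) : arcIdx z ∈ Finset.Icc (1 : ℤ) 12 := by
  have h1 := Complex.neg_pi_lt_arg z
  have h2 := Complex.arg_le_pi z
  have hpi := Real.pi_pos
  rw [Finset.mem_Icc, arcIdx]
  constructor
  · rw [Int.one_le_ceil_iff]
    apply div_pos _ hpi
    linarith
  · rw [Int.ceil_le, div_le_iff₀ hpi]
    push_cast
    linarith

theorem norm_sub_lt_of_arcIdx_eq {z w μ : ℂ} (hz : ‖z‖ = 1) (hw : ‖w‖ = 1) (hμ : μ * z = w)
    (h : arcIdx z = arcIdx w) : ‖μ - ((√3 / 2 : ℝ) : ℂ)‖ < 1 / 2 := by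
  have hpi := Real.pi_pos
  have h1 : |Complex.arg w - Complex.arg z| < Real.pi / 6 := by
    have h2 := Int.ceil_lt_add_one ((Complex.arg z + Real.pi) * 6 / Real.pi)
    have h3 := Int.le_ceil ((Complex.arg z + Real.pi) * 6 / Real.pi)
    have h4 := Int.ceil_lt_add_one ((Complex.arg w + Real.pi) * 6 / Real.pi)
    have h5 := Int.le_ceil ((Complex.arg w + Real.pi) * 6 / Real.pi)
    unfold arcIdx at h
    rw [h] at h2 h3
    have h6 := h5.trans_lt h2
    have h7 := h3.trans_lt h4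
    rw [div_add_one hpi.ne', div_lt_div_iff_of_pos_right hpi] at h6 h7
    rw [abs_lt]
    constructor <;> linarith
  have hz' := Complex.norm_mul_exp_arg_mul_I z
  have hw' := Complex.norm_mul_exp_arg_mul_I w
  rw [hz] at hz'
  rw [hw] at hw'
  simp only [Complex.ofReal_one, one_mul] at hz' hw'
  have hz0 : z ≠ 0 := by intro h0; rw [h0, norm_zero] at hz; exact zero_ne_one hz
  set θ := Complex.arg w - Complex.arg z with hθ
  have hμ' : μ = Complex.exp (θ * Complex.I) := by
    apply mul_right_cancel₀ hz0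
    rw [hμ]
    conv_rhs => rw [← hz']
    conv_lhs => rw [← hw']
    rw [← Complex.exp_add, hθ]
    congr 1
    push_cast
    ring
  have hcos : √3 / 2 < Real.cos θ := by
    rw [← Real.cos_pi_div_six, ← Real.cos_abs θ]
    exact Real.cos_lt_cos_of_nonneg_of_le_pi (abs_nonneg _) (by linarith) h1
  have h3 : √3 * √3 = 3 := Real.mul_self_sqrt (by norm_num)
  have h3' : 0 < √3 := Real.sqrt_pos.2 (by norm_num)
  have hsq : ‖μ - ((√3 / 2 : ℝ) : ℂ)‖ ^ 2 < (1 / 2) ^ 2 := by
    rw [Complex.sq_norm, Complex.normSq_apply, hμ']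
    simp only [Complex.sub_re, Complex.exp_ofReal_mul_I_re, Complex.ofReal_re, Complex.sub_im,
      Complex.exp_ofReal_mul_I_im, Complex.ofReal_im, sub_zero]
    have := Real.sin_sq_add_cos_sq θ
    nlinarith
  exact lt_of_pow_lt_pow_left₀ 2 (by norm_num) hsq

theorem charDegree_character {G : Type*} [Group G] {V : Type*} [AddCommGroup V] [Module ℂ V]
    [FiniteDimensional ℂ V] (ρ : Representation ℂ G V) :
    charDegree ρ.character = finrank ℂ V := by
  simp [charDegree, Representation.char_one]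

theorem injective_of_faithful {G : Type*} [Group G] {V : Type*} [AddCommGroup V] [Module ℂ V]
    [FiniteDimensional ℂ V] (ρ : Representation ℂ G V)
    (h : ∀ g, ρ.character g = ρ.character 1 → g = 1) : Function.Injective ρ := by
  rw [injective_iff_map_eq_one]
  intro g hg
  apply h
  simp only [Representation.character, hg, map_one]

/-- Isaacs 14.13. -/
theorem exists_normal_abelian_index_le_twelve_pow {G : Type*} [Group G] [Finite G] {χ : G → ℂ}
    (hχ : IsCharacter G χ) (hfaith : ∀ g : G, χ g = χ 1 → g = 1) :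
    ∃ A : Subgroup G, A.Normal ∧ (∀ x ∈ A, ∀ y ∈ A, x * y = y * x) ∧
      ∀ H : Subgroup G, (∀ x ∈ H, ∀ y ∈ H, x * y = y * x) →
        (A.subgroupOf H).index ≤ 12 ^ charDegree χ := by
  classical
  obtain ⟨n, ρ, rfl, hρ⟩ := exists_isometric_rep hχ
  have hinj := injective_of_faithful ρ hfaith
  rw [charDegree_character]
  set c : ℂ := ((√3 / 2 : ℝ) : ℂ) with hc
  let S : Set G := {g | ‖repCLM ρ g - c • 1‖ < 1 / 2}
  have hS1 : ∀ b ∈ S, ‖repCLM ρ b - 1‖ < 1 := by
    intro b hb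
    have h1 : repCLM ρ b - 1 = (repCLM ρ b - c • 1) + (c - 1) • 1 := by
      rw [sub_smul, one_smul]; abel
    have h2 : ‖(c - 1) • (1 : EuclideanSpace ℂ (Fin n) →L[ℂ] EuclideanSpace ℂ (Fin n))‖
        ≤ 1 / 2 := by
      rw [norm_smul]
      have h3 : ‖c - 1‖ ≤ 1 / 2 := by
        rw [hc, ← Complex.ofReal_one, ← Complex.ofReal_sub, Complex.norm_real, Real.norm_eq_abs,
          abs_le]
        have h4 : (1 : ℝ) ≤ √3 := Real.one_le_sqrt.2 (by norm_num)
        have h5 : √3 ≤ 2 := Real.sqrt_le_iff.2 (by norm_num)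
        constructor <;> linarith
      have h4 := ContinuousLinearMap.norm_id_le (𝕜 := ℂ) (E := EuclideanSpace ℂ (Fin n))
      calc _ ≤ (1 / 2 : ℝ) * 1 := mul_le_mul h3 h4 (norm_nonneg _) (by norm_num)
        _ = _ := by ring
    rw [h1]
    have hb' : ‖repCLM ρ b - c • 1‖ < 1 / 2 := hb
    exact (norm_add_le _ _).trans_lt (by linarith)
  have hSS : ∀ a ∈ S, ∀ b ∈ S, a * b = b * a := fun a ha b hb =>
    (commute_of_near ρ hρ hinj ha (hS1 b hb)).eq
  refine ⟨Subgroup.closure S, ?_, ?_, ?_⟩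
  · constructor
    intro x hx g
    have : (Subgroup.closure S).map (MulAut.conj g).toMonoidHom ≤ Subgroup.closure S := by
      rw [MonoidHom.map_closure]
      apply Subgroup.closure_mono
      rintro _ ⟨a, ha, rfl⟩
      exact (norm_repCLM_conj_sub ρ hρ a g c).trans_lt ha
    exact this ⟨x, hx, rfl⟩
  · have h1 : Subgroup.closure S ≤ Subgroup.centralizer S := by
      rw [Subgroup.closure_le]
      intro a ha
      exact Subgroup.mem_centralizer_iff.2 fun b hb => hSS b hb a ha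
    have h2 : Subgroup.closure S ≤ Subgroup.centralizer (Subgroup.closure S : Set G) := by
      rw [Subgroup.closure_le]
      intro a ha
      exact Subgroup.mem_centralizer_iff.2 fun b hb =>
        (Subgroup.mem_centralizer_iff.1 (h1 hb) a ha).symm
    intro x hx y hy
    exact Subgroup.mem_centralizer_iff.1 (h2 hy) x hx
  · intro H hH
    let Λ := {l : H → ℂ // ∃ w : EuclideanSpace ℂ (Fin n), w ≠ 0 ∧ ∀ h : H, ρ h w = l h • w}
    have hli : LinearIndependent ℂ (fun l : Λ => l.2.choose) := by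
      apply linearIndependent_of_ne_zero_of_inner_eq_zero (fun l => l.2.choose_spec.1)
      intro l m hlm
      obtain ⟨h, hh⟩ : ∃ h, l.1 h ≠ m.1 h := by
        by_contra hcon
        push Not at hcon
        exact hlm (Subtype.ext (funext hcon))
      exact inner_eq_zero_of_eigen ρ hρ (l.2.choose_spec.2 h) (m.2.choose_spec.2 h) hh
    have : Finite Λ := hli.finite
    have : Fintype Λ := Fintype.ofFinite Λ
    have hcard : Fintype.card Λ ≤ finrank ℂ (EuclideanSpace ℂ (Fin n)) :=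
      hli.fintype_card_le_finrank
    let f : H → (Λ → Finset.Icc (1 : ℤ) 12) := fun h l => ⟨arcIdx (l.1 h), arcIdx_mem _⟩
    have hf : ∀ x y : H, f x = f y → ((x⁻¹ * y : H) : G) ∈ S := by
      intro x y hxy
      change ‖repCLM ρ ((x⁻¹ * y : H) : G) - c • 1‖ < 1 / 2
      rcases subsingleton_or_nontrivial (EuclideanSpace ℂ (Fin n)) with hs | hs
      · rw [Subsingleton.elim (repCLM ρ ((x⁻¹ * y : H) : G) - c • 1) 0, norm_zero]
        norm_num
      obtain ⟨μ, v, hv0, hv, hn⟩ := exists_eigen_norm_eq ρ hρ ((x⁻¹ * y : H) : G) c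
      rw [hn]
      obtain ⟨w, hwU, hw0, hw⟩ := exists_common_eigenvector_in ρ (H : Set G) hH
        (Module.End.eigenspace (ρ ((x⁻¹ * y : H) : G)) μ) (by
          intro h0
          have : v ∈ Module.End.eigenspace (ρ ((x⁻¹ * y : H) : G)) μ :=
            Module.End.mem_eigenspace_iff.2 hv
          rw [h0] at this
          exact hv0 this) (by
          intro a ha u hu
          rw [Module.End.mem_eigenspace_iff] at hu ⊢
          rw [← Module.End.mul_apply, ← map_mul, hH _ (x⁻¹ * y).2 a ha, map_mul,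
            Module.End.mul_apply, hu, map_smul])
      choose l hl using hw
      let l' : Λ := ⟨fun h => l h h.2, w, hw0, fun h => hl h h.2⟩
      have h1 : arcIdx (l x x.2) = arcIdx (l y y.2) :=
        congrArg Subtype.val (congrFun hxy l')
      refine norm_sub_lt_of_arcIdx_eq (norm_eq_one_of_eigen ρ hρ hw0 (hl x x.2))
        (norm_eq_one_of_eigen ρ hρ hw0 (hl y y.2)) ?_ h1
      have h2 := Module.End.mem_eigenspace_iff.1 hwU
      have h3 : ρ y w = (μ * l x x.2) • w := by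
        rw [show (y : G) = x * ((x⁻¹ * y : H) : G) by simp, map_mul, Module.End.mul_apply, h2,
          map_smul, hl x x.2, smul_smul]
      rw [hl y y.2] at h3
      exact (smul_left_injective ℂ hw0 h3).symm
    have hinj' : Function.Injective
        (fun q : H ⧸ (Subgroup.closure S).subgroupOf H => f q.out) := by
      intro q q' hq
      rw [← q.out_eq', ← q'.out_eq', QuotientGroup.eq, Subgroup.mem_subgroupOf]
      exact Subgroup.subset_closure (hf _ _ hq)
    have h1 := Nat.card_le_card_of_injective _ hinj'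
    rw [Nat.card_eq_fintype_card (α := Λ → _), Fintype.card_fun, Fintype.card_coe] at h1
    refine h1.trans ?_
    have : (Finset.Icc (1 : ℤ) 12).card = 12 := by simp
    rw [this]
    exact Nat.pow_le_pow_right (by norm_num) hcard

end CfsgLib.ChDeg
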