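import Mathlib
import Cfsg.Agent.Lib.ChDeg.Ito
import Cfsg.Agent.Lib.Char.FrobChar
import Cfsg.Agent.Lib.Core.MinNormal

/-! Nonabelian groups all of whose proper quotients are abelian (Isaacs, Lemma 12.3), and the
dichotomy for characters over a Frobenius quotient (Isaacs, Theorem 12.4). -/

set_option autoImplicit false

universe u

namespace CfsgLib.ChDeg

open Cfsg CfsgLib.Char CfsgLib.CharDeep Subgroup
open scoped commutatorElement ComplexConjugate

variable {G : Type u} [Group G]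

/-- `G` is nonabelian and all its proper quotients are abelian. -/
structure JNA (G : Type*) [Group G] : Prop where
  ne : _root_.commutator G ≠ ⊥
  le : ∀ N : Subgroup G, N.Normal → N ≠ ⊥ → _root_.commutator G ≤ N

theorem map_commutator_of_surjective {Q : Type*} [Group Q] {f : G →* Q}
    (hf : Function.Surjective f) : (_root_.commutator G).map f = _root_.commutator Q := by
  rw [_root_.commutator_def, _root_.commutator_def, map_commutator, map_top_of_surjective _ hf]

theorem commutator_quotient_eq_bot_iff (K : Subgroup G) [K.Normal] :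
    _root_.commutator (G ⧸ K) = ⊥ ↔ _root_.commutator G ≤ K := by
  rw [← map_commutator_of_surjective (QuotientGroup.mk'_surjective K), Subgroup.map_eq_bot_iff,
    QuotientGroup.ker_mk']

theorem exists_jna_quotient [Finite G] (D : Subgroup G) [hD : D.Normal]
    (h : ¬ _root_.commutator G ≤ D) :
    ∃ (K : Subgroup G) (_ : K.Normal), D ≤ K ∧ JNA (G ⧸ K) := by
  obtain ⟨K, hDK, ⟨hKn, hK⟩, hmax⟩ := Finite.exists_le_maximal
    (p := fun K : Subgroup G => K.Normal ∧ ¬ _root_.commutator G ≤ K) ⟨hD, h⟩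
  refine ⟨K, hKn, hDK, fun e => hK ((commutator_quotient_eq_bot_iff K).1 e), fun N hN hN0 => ?_⟩
  have hle : K ≤ N.comap (QuotientGroup.mk' K) := SolvStruct.le_comap_mk' K N
  by_contra hc
  have h1 : ¬ _root_.commutator G ≤ N.comap (QuotientGroup.mk' K) := by
    intro e
    apply hc
    rw [← map_commutator_of_surjective (QuotientGroup.mk'_surjective K)]
    exact map_le_iff_le_comap.2 e
  have h2 := hmax ⟨hN.comap _, h1⟩ hle
  apply hN0
  rw [← SolvStruct.map_comap_mk' K N, SolvStruct.map_mk'_eq_bot_iff]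
  exact h2

theorem JNA.nontrivial (h : JNA G) : Nontrivial G := by
  by_contra hn
  rw [not_nontrivial_iff_subsingleton] at hn
  exact h.ne (Subsingleton.elim _ _)

theorem JNA.min (h : JNA G) (M : Subgroup G) (hM : M.Normal) (hle : M ≤ _root_.commutator G) :
    M = ⊥ ∨ M = _root_.commutator G := by
  by_cases h0 : M = ⊥
  · exact Or.inl h0
  · exact Or.inr (le_antisymm hle (h.le M hM h0))

theorem exists_irr_deg_ne_one [Finite G] (h : _root_.commutator G ≠ ⊥) :
    ∃ χ, IsIrrCharacter G χ ∧ charDegree χ ≠ 1 := by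
  by_contra hc
  push Not at hc
  apply h
  rw [_root_.commutator_eq_bot_iff]
  exact ⟨⟨comm_of_forall_deg_eq_one hc⟩⟩

theorem JNA.cker_eq_bot [Finite G] (h : JNA G) {χ : G → ℂ} (hχ : IsIrrCharacter G χ)
    (h1 : charDegree χ ≠ 1) : cker χ = ⊥ := by
  by_contra h0
  exact h1 ((deg_eq_one_iff_commutator_le hχ).2 (h.le _ inferInstance h0))

/-- A faithful irreducible character of a group of class two vanishes off the centre. -/
theorem eq_zero_of_class_two [Finite G] (hc : _root_.commutator G ≤ center G) {χ : G → ℂ}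
    (hχ : IsIrrCharacter G χ) (hf : cker χ = ⊥) {g : G} (hg : g ∉ center G) : χ g = 0 := by
  rw [mem_center_iff] at hg
  push Not at hg
  obtain ⟨y, hy⟩ := hg
  have hz : ⁅y, g⁆ ∈ center G := hc (commutator_mem_commutator (mem_top _) (mem_top _))
  refine eq_zero_of_isConj_mul (isCharacter_of_isIrr hχ) (norm_irr_of_mem_center hχ hz) ?_ ?_
  · intro e
    have := (mem_cker (isCharacter_of_isIrr hχ)).2 e
    rw [hf, mem_bot, commutatorElement_eq_one_iff_mul_comm] at this
    exact hy this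
  · rw [isConj_iff]
    exact ⟨y, by simp [commutatorElement_def, mul_assoc]⟩

/-- If `f` vanishes off `K`, the inner product of the restrictions is `[G : K]` times the inner
product. -/
theorem classInner_res_of_vanish [Fintype G] (K : Subgroup G) [Fintype K] {f : G → ℂ}
    (hf : ∀ g, g ∉ K → f g = 0) (f' : G → ℂ) :
    classInner (fun k : K => f k) (fun k : K => f' k) = K.index * classInner f f' := by
  classical
  rw [classInner_def, classInner_def]
  have h1 : ∑ g : G, f g * conj (f' g) = ∑ k : K, f k * conj (f' k) := by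
    rw [← Finset.sum_subtype (Finset.univ.filter (· ∈ K)) (by simp)
      (fun g => f g * conj (f' g))]
    refine (Finset.sum_subset (Finset.filter_subset _ _) fun g _ hg => ?_).symm
    rw [hf g (by simpa using hg), zero_mul]
  rw [h1, ← mul_assoc, ← K.index_mul_card]
  have : (K.index : ℂ) ≠ 0 := by exact_mod_cast K.index_ne_zero_of_finite
  have : (Nat.card K : ℂ) ≠ 0 := natCard_ne_zero
  push_cast
  field_simp

theorem deg_sq_eq_index_of_vanish [Finite G] {χ : G → ℂ} (hχ : IsIrrCharacter G χ)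
    (Z : Subgroup G) (hZ : ∀ z ∈ Z, ‖χ z‖ = ‖χ 1‖) (h0 : ∀ g, g ∉ Z → χ g = 0) :
    charDegree χ ^ 2 = Z.index := by
  have := Fintype.ofFinite G
  have := Fintype.ofFinite Z
  have h1 := classInner_res_of_vanish Z h0 χ
  rw [classInner_irr_self hχ, mul_one, classInner_self_eq] at h1
  have h2 : ∑ z : Z, ‖χ z‖ ^ 2 = Nat.card Z * (charDegree χ : ℝ) ^ 2 := by
    rw [Finset.sum_congr rfl (g := fun _ => (charDegree χ : ℝ) ^ 2)
      (fun z _ => by rw [hZ z z.2, norm_one_eq_deg (isCharacter_of_isIrr hχ)])]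
    simp [Nat.card_eq_fintype_card]
  have h3 : (Nat.card Z : ℝ) ≠ 0 := by exact_mod_cast (Nat.card_pos (α := Z)).ne'
  rw [h2, ← mul_assoc, inv_mul_cancel₀ h3, one_mul] at h1
  exact_mod_cast h1

/-- The norm of the restriction of an irreducible character to a normal subgroup divides the
square of the degree. -/
theorem exists_norm_res_dvd [Finite G] (K : Subgroup G) [K.Normal] [Fintype K] {χ : G → ℂ}
    (hχ : IsIrrCharacter G χ) : ∃ a : ℕ,
      classInner (fun k : K => χ k) (fun k : K => χ k) = a ∧ a ∣ charDegree χ ^ 2 := by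
  classical
  have := Fintype.ofFinite G
  obtain ⟨θ, hθ, h⟩ := exists_irr_under K hχ
  obtain ⟨e, -, he, hd⟩ := exists_deg_clifford K hχ hθ h
  refine ⟨e * e * (inertia K θ).index, ?_, ⟨(inertia K θ).index * charDegree θ ^ 2, by
    rw [hd]; ring⟩⟩
  have hc := clifford K hχ hθ h
  conv_lhs => enter [2]; rw [hc]
  rw [classInner_smul_right, classInner_sum_right, he, Finset.sum_congr rfl (g := fun _ => (e : ℂ))]
  · simp [card_conjSet]; ring
  · intro ψ hψ
    obtain ⟨g, rfl⟩ := (mem_conjSet K).1 hψ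
    rw [classInner_res_conjChar K g (isClassFunction_of_isIrr hχ), he]

theorem index_dvd_deg_sq_of_vanish [Finite G] (K : Subgroup G) [K.Normal] {χ : G → ℂ}
    (hχ : IsIrrCharacter G χ) (h0 : ∀ g, g ∉ K → χ g = 0) : K.index ∣ charDegree χ ^ 2 := by
  have := Fintype.ofFinite G
  have := Fintype.ofFinite K
  obtain ⟨a, ha, hd⟩ := exists_norm_res_dvd K hχ
  rw [classInner_res_of_vanish K h0, classInner_irr_self hχ, mul_one] at ha
  have : K.index = a := by exact_mod_cast ha
  rwa [this]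

theorem isNilpotent_of_commutator_le_center (h : _root_.commutator G ≤ center G) :
    Group.IsNilpotent G := by
  have : IsMulCommutative (G ⧸ center G) :=
    (_root_.commutator_eq_bot_iff _).1 ((commutator_quotient_eq_bot_iff _).2 h)
  have : Group.IsNilpotent (G ⧸ center G) := Core.isNilpotent_of_isMulCommutative
  exact Group.of_quotient_center_nilpotent this

/-- Isaacs 12.3 (a). -/
theorem JNA.caseA [Finite G] (h : JNA G) (hZ : center G ≠ ⊥) :
    ∃ p : ℕ, p.Prime ∧ IsPGroup p G ∧ _root_.commutator G ≤ center G ∧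
      Nat.card (_root_.commutator G) = p ∧
      ∀ χ, IsIrrCharacter G χ → charDegree χ ≠ 1 →
        (∀ g, g ∉ center G → χ g = 0) ∧ charDegree χ ^ 2 = (center G).index := by
  have hc := h.le _ inferInstance hZ
  have hp := Core.card_prime_of_minimal_normal_of_le_center h.ne hc h.min
  have := isNilpotent_of_commutator_le_center hc
  refine ⟨_, hp, ?_, hc, rfl, fun χ hχ h1 => ?_⟩
  · have h1 := Core.pCore_sup_pPrimeCore_of_isNilpotent (G := G) hp
    have h2 : pPrimeCore (Nat.card (_root_.commutator G)) G = ⊥ := by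
      by_contra h0
      exact Core.not_dvd_card_pPrimeCore hp G (card_dvd_of_le (h.le _ inferInstance h0))
    rwa [h2, sup_bot_eq, Core.pCore_eq_top_iff] at h1
  · have h0 : ∀ g, g ∉ center G → χ g = 0 := fun g hg =>
      eq_zero_of_class_two hc hχ (h.cker_eq_bot hχ h1) hg
    exact ⟨h0, deg_sq_eq_index_of_vanish hχ _ (fun z hz => norm_irr_of_mem_center hχ hz) h0⟩

theorem normal_of_sup_eq_top {N C D : Subgroup G} (h : N ⊔ C = ⊤)
    (h1 : N ≤ normalizer (D : Set G)) (h2 : C ≤ normalizer (D : Set G)) : D.Normal := by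
  rw [← normalizer_eq_top_iff, eq_top_iff, ← h]
  exact sup_le h1 h2

theorem exists_prime_ne_of_not_isPGroup [Finite G] {p : ℕ} (h : ¬ IsPGroup p G) :
    ∃ q : ℕ, q.Prime ∧ q ≠ p ∧ q ∣ Nat.card G := by
  by_contra hc
  push Not at hc
  apply h
  refine IsPGroup.of_card (Nat.eq_prime_pow_of_unique_prime_dvd Nat.card_pos.ne' ?_)
  intro d hd hdv
  by_contra e
  exact hc d hd e hdv

/-- Isaacs 12.3 (b). -/
theorem JNA.caseB [Finite G] [Group.IsSolvable G] (h : JNA G) (hZ : center G = ⊥) :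
    ∃ p : ℕ, p.Prime ∧ IsPGroup p (_root_.commutator G) ∧
      (∀ x ∈ _root_.commutator G, x ^ p = 1) ∧
      (∀ a ∈ _root_.commutator G, ∀ b ∈ _root_.commutator G, a * b = b * a) ∧
      (∀ x ∈ _root_.commutator G, x ≠ 1 → centralizer ({x} : Set G) ≤ _root_.commutator G) ∧
      ¬ p ∣ (_root_.commutator G).index ∧
      ∀ χ, IsIrrCharacter G χ → charDegree χ ≠ 1 →
        charDegree χ = (_root_.commutator G).index := by
  set N := _root_.commutator G with hNdef
  have := h.nontrivial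
  obtain ⟨p, hp, hE⟩ := Core.isElementaryAbelian_of_minimal_normal h.ne h.min
  have := Fact.mk hp
  have hNp := Core.isElementaryAbelian_isPGroup hE
  have hNc : ∀ a ∈ N, ∀ b ∈ N, a * b = b * a := Core.isMulCommutative_iff_forall.1 hE.1
  have hnp : ¬ IsPGroup p G := fun e => e.bot_lt_center.ne' hZ
  obtain ⟨q, hq, hqp, hqd⟩ := exists_prime_ne_of_not_isPGroup hnp
  have := Fact.mk hq
  obtain ⟨Q⟩ : Nonempty (Sylow q G) := inferInstance
  have hQ0 : (Q : Subgroup G) ≠ ⊥ := Q.ne_bot_of_dvd_card hqd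
  have hL : (N ⊔ Q).Normal := Normal.of_commutator_le G le_sup_left
  have hF := Sylow.normalizer_sup_eq_top' (N := N ⊔ Q) Q le_sup_right
  set C := centralizer ((Q : Subgroup G) : Set G) with hC
  have hdis : (Q : Subgroup G) ⊓ N = ⊥ :=
    disjoint_iff.1 (IsPGroup.disjoint_of_ne q p hqp _ _ Q.isPGroup' hNp)
  have hNC : normalizer ((Q : Subgroup G) : Set G) ≤ C := by
    intro g hg
    rw [hC, mem_centralizer_iff]
    intro y hy
    have h1 : ⁅g, y⁆ ∈ (Q : Subgroup G) ⊓ N :=
      ⟨(Q : Subgroup G).mul_mem ((mem_normalizer_iff.1 hg y).1 hy) ((Q : Subgroup G).inv_mem hy),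
        commutator_mem_commutator (mem_top _) (mem_top _)⟩
    rw [hdis, mem_bot, commutatorElement_eq_one_iff_mul_comm] at h1
    exact h1.symm
  have hNCtop : N ⊔ C = ⊤ := by
    rw [eq_top_iff, ← hF]
    exact sup_le (le_sup_of_le_right hNC)
      (sup_le le_sup_left (le_sup_of_le_right (le_normalizer.trans hNC)))
  have hnot : ¬ N ≤ C := by
    intro e
    rw [sup_eq_right.2 e, hC, centralizer_eq_top_iff_subset, hZ] at hNCtop
    exact hQ0 (eq_bot_iff.2 hNCtop)
  have key : ∀ E : Subgroup G, E.Normal → N ≤ centralizer (E : Set G) → E ⊓ C = ⊥ := by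
    intro E hE hNE
    by_contra h0
    refine hnot ((h.le _ (normal_of_sup_eq_top hNCtop ?_ ?_) h0).trans inf_le_right)
    · exact (hNE.trans (centralizer_le (fun x hx => hx.1))).trans (centralizer_le_normalizer _)
    · intro c hc
      refine Core.mem_normalizer_of_forall_conj_mem fun x hx => ⟨hE.conj_mem _ hx.1 _, ?_⟩
      exact C.mul_mem (C.mul_mem hc hx.2) (C.inv_mem hc)
  have hcent : ∀ x ∈ N, x ≠ 1 → centralizer ({x} : Set G) ≤ N := by
    intro x hx hx1
    set E := centralizer ({x} : Set G) with hEdef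
    have hNE : N ≤ E := fun y hy => by
      rw [hEdef, mem_centralizer_singleton_iff]; exact hNc y hy x hx
    have hEn : E.Normal := Normal.of_commutator_le G hNE
    have h1 : N ≤ E ⊓ centralizer (E : Set G) := by
      refine h.le _ inferInstance fun e => hx1 ?_
      have : x ∈ E ⊓ centralizer (E : Set G) := ⟨hNE hx, by
        intro y hy
        exact mem_centralizer_singleton_iff.1 hy⟩
      rwa [e, mem_bot] at this
    have h2 := key E hEn (h1.trans inf_le_right)
    have h3 := Core.sup_inf_assoc_of_normal_left (A := N) (B := C) (C := E) hNE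
    rw [hNCtop, top_inf_eq, inf_comm, h2, sup_bot_eq] at h3
    exact h3.le
  refine ⟨p, hp, hNp, hE.2, hNc, hcent, ?_, fun χ hχ h1 => ?_⟩
  · obtain ⟨P⟩ : Nonempty (Sylow p G) := inferInstance
    have h1 := Core.inf_centralizer_ne_bot_of_isPGroup hNp P.isPGroup'
      (by rw [normalizer_eq_top]; exact le_top) h.ne
    obtain ⟨⟨x, hx⟩, hx1⟩ := ne_bot_iff_exists_ne_one.1 h1
    have h2 : (P : Subgroup G) ≤ N := by
      refine le_trans (fun y hy => ?_) (hcent x hx.1 fun e => hx1 (Subtype.ext e))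
      rw [mem_centralizer_singleton_iff]
      exact hx.2 y hy
    exact fun e => P.not_dvd_index (e.trans (index_dvd_of_le h2))
  · have := Fintype.ofFinite G
    rcases irr_ker_or_induced_of_centralizer_le N hcent hχ with h2 | ⟨τ, hτ, -, rfl⟩
    · exact absurd ((deg_eq_one_iff_commutator_le hχ).2
        ((le_cker_iff (isCharacter_of_isIrr hχ)).2 h2)) h1
    · have : IsMulCommutative N := hE.1
      rw [deg_ind N (isCharacter_of_isIrr hτ), (deg_eq_one_iff (isCharacter_of_isIrr hτ)).2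
        (irr_one_eq_one_of_comm hτ), mul_one]

/-- Isaacs 12.4, inertia form. -/
theorem frob_quot_dichotomy' [Finite G] {Q : Type*} [Group Q] [Finite Q] (φ : G →* Q)
    (A : Subgroup Q) [hA : A.Normal] (hcomm : ∀ a ∈ A, ∀ b ∈ A, a * b = b * a)
    (hF : ∀ x ∈ A, x ≠ 1 → centralizer ({x} : Set Q) ≤ A)
    (N : Subgroup G) [hNn : N.Normal] (hN : ∀ g, g ∈ N ↔ φ g ∈ A) {ψ : N → ℂ}
    (hψ : IsClassFunction N ψ) :
    (∃ lam : A →* ℂˣ,
      inertia N (fun n : N => ψ n * (lam ⟨φ n, (hN _).1 n.2⟩ : ℂ)) ≤ N) ∨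
      ∀ n : N, φ n ≠ 1 → ψ n = 0 := by
  by_contra hc
  push Not at hc
  obtain ⟨h1, n₀, hn₀, hψ₀⟩ := hc
  simp only [SetLike.not_le_iff_exists] at h1
  choose g hg hgN using h1
  let _ : CommGroup A := { (inferInstance : Group A) with
    mul_comm := fun a b => Subtype.ext (hcomm a a.2 b b.2) }
  let f : N →* A := (φ.comp N.subtype).codRestrict A (fun n => (hN _).1 n.2)
  let S : Subgroup A := closure {a | ∃ n : N, ψ n ≠ 0 ∧ f n = a}
  let c : G → A →* A := fun x => (MulAut.conjNormal (φ x) : MulAut A).toMonoidHom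
  have hc : ∀ (x : G) (a : A), (c x a : Q) = φ x * a * (φ x)⁻¹ := fun x a => rfl
  have hfc : ∀ (x : G) (n : N), f ⟨x * n * x⁻¹, hNn.conj_mem n n.2 x⟩ = c x (f n) := by
    intro x n
    apply Subtype.ext
    rw [hc]
    simp [f]
  have hI : ∀ (lam : A →* ℂˣ) (x : G),
      x ∈ inertia N (fun n : N => ψ n * (lam ⟨φ n, (hN _).1 n.2⟩ : ℂ)) → ∀ n : N,
      ψ ⟨x * n * x⁻¹, hNn.conj_mem n n.2 x⟩ * (lam (c x (f n)) : ℂ) = ψ n * lam (f n) := by
    intro lam x hx n
    rw [← hfc]
    exact (mem_inertia' N).1 hx n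
  have hS : ∀ (lam : A →* ℂˣ), ∀ s ∈ S, c (g lam) s ∈ S := by
    intro lam
    change S ≤ S.comap (c (g lam))
    rw [closure_le]
    rintro _ ⟨n, hn, rfl⟩
    refine subset_closure ⟨_, ?_, hfc (g lam) n⟩
    intro e
    have := hI lam _ (hg lam) n
    rw [e, zero_mul] at this
    exact mul_ne_zero hn (Units.ne_zero _) this.symm
  have hfix : ∀ x : G, x ∉ N → ∀ a : A, c x a = a → a = 1 := by
    intro x hx a ha
    by_contra h1
    apply hx
    rw [hN]
    refine hF a a.2 (fun e => h1 (Subtype.ext e)) ?_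
    rw [mem_centralizer_singleton_iff]
    have := congrArg Subtype.val ha
    rw [hc] at this
    exact mul_inv_eq_iff_eq_mul.1 this
  have key : ∀ lam mu : A →* ℂˣ,
      g lam ∈ inertia N (fun n : N => ψ n * (mu ⟨φ n, (hN _).1 n.2⟩ : ℂ)) →
      ∀ s ∈ S, lam s = mu s := by
    intro lam mu hmu
    have h1 : S ≤ MonoidHom.eqLocus ((lam / mu).comp (c (g lam))) (lam / mu) := by
      rw [closure_le]
      rintro _ ⟨n, hn, rfl⟩
      have e1 := hI lam _ (hg lam) n
      have e2 := hI mu _ hmu n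
      change (lam / mu) (c (g lam) (f n)) = (lam / mu) (f n)
      simp only [MonoidHom.div_apply]
      rw [div_eq_div_iff_mul_eq_mul]
      apply Units.ext
      simp only [Units.val_mul]
      have h0 : ψ ⟨g lam * n * (g lam)⁻¹, hNn.conj_mem n n.2 _⟩ ≠ 0 := by
        intro e
        rw [e, zero_mul] at e1
        exact mul_ne_zero hn (Units.ne_zero _) e1.symm
      apply mul_left_cancel₀ h0
      apply mul_left_cancel₀ hn
      linear_combination (ψ n * (mu (f n) : ℂ)) * e1 - (ψ n * (lam (f n) : ℂ)) * e2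
    let δ : S → S := fun s => ⟨c (g lam) s / s, S.div_mem (hS lam s s.2) s.2⟩
    have hδ : Function.Injective δ := by
      intro s t hst
      have e : c (g lam) s / s = c (g lam) t / t := congrArg Subtype.val hst
      apply Subtype.ext
      rw [← div_eq_one]
      apply hfix _ (hgN lam)
      rw [map_div, div_eq_div_iff_mul_eq_mul]
      rw [div_eq_div_iff_mul_eq_mul] at e
      rw [e, mul_comm]
    intro s hs
    obtain ⟨t, ht⟩ := Finite.surjective_of_injective hδ ⟨s, hs⟩
    have e : c (g lam) t / t = s := congrArg Subtype.val ht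
    have e2 : (lam / mu) (c (g lam) t) = (lam / mu) t := h1 t.2
    rw [← div_eq_one, ← MonoidHom.div_apply, ← e, map_div, e2, div_self']
  have hs₀ : f n₀ ∈ S := subset_closure ⟨n₀, hψ₀, rfl⟩
  have hs₁ : f n₀ ≠ 1 := fun e => hn₀ (congrArg Subtype.val e)
  choose ext hext using MonoidHom.domRestrict_surjective ℂ S
  let F : (S →* ℂˣ) → S := fun σ => ⟨c (g (ext σ)) (f n₀), hS _ _ hs₀⟩
  have hFi : Function.Injective F := by
    intro σ τ e
    have e1 : φ (g (ext σ)) * f n₀ * (φ (g (ext σ)))⁻¹ =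
        φ (g (ext τ)) * f n₀ * (φ (g (ext τ)))⁻¹ := congrArg (fun s : S => ((s : A) : Q)) e
    have e2 : (g (ext τ))⁻¹ * g (ext σ) ∈ N := by
      rw [hN]
      refine hF _ (f n₀).2 (fun e => hs₁ (Subtype.ext e)) ?_
      rw [mem_centralizer_singleton_iff, map_mul, map_inv]
      calc _ = (φ (g (ext τ)))⁻¹ * (φ (g (ext σ)) * f n₀ * (φ (g (ext σ)))⁻¹) * φ (g (ext σ)) := by
            group
        _ = _ := by rw [e1]; group
    have hcf : IsClassFunction N (fun n : N => ψ n * (ext τ ⟨φ n, (hN _).1 n.2⟩ : ℂ)) :=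
      isClassFunction_mul hψ (isClassFunction_of_isIrr (isIrr_unitsHom ((ext τ).comp f)))
    have e3 := (inertia N _).mul_mem (hg (ext τ)) (le_inertia N hcf e2)
    rw [mul_inv_cancel_left] at e3
    have e4 := key _ _ e3
    rw [← hext σ, ← hext τ]
    ext s
    exact congrArg Units.val (e4 s s.2)
  have hcard : Nat.card S ≤ Nat.card (S →* ℂˣ) :=
    (CommGroup.card_monoidHom_of_hasEnoughRootsOfUnity S ℂ).ge
  obtain ⟨σ, hσ⟩ := (hFi.bijective_of_nat_card_le hcard).2 1
  have e : c (g (ext σ)) (f n₀) = 1 := congrArg Subtype.val hσ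
  exact hs₁ ((MulEquiv.map_eq_one_iff (MulAut.conjNormal (φ (g (ext σ))) : MulAut A)).1 e)

/-- Isaacs 12.4. -/
theorem frob_quot_dichotomy [Finite G] {Q : Type*} [Group Q] [Finite Q] (φ : G →* Q)
    (A : Subgroup Q) [A.Normal] (hcomm : ∀ a ∈ A, ∀ b ∈ A, a * b = b * a)
    (hF : ∀ x ∈ A, x ≠ 1 → centralizer ({x} : Set Q) ≤ A)
    (N : Subgroup G) [N.Normal] (hN : ∀ g, g ∈ N ↔ φ g ∈ A) {ψ : N → ℂ}
    (hψ : IsIrrCharacter N ψ) :
    (∃ χ, IsIrrCharacter G χ ∧ charDegree χ = N.index * charDegree ψ) ∨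
      ((∀ n : N, φ n ≠ 1 → ψ n = 0) ∧ φ.ker.relIndex N ∣ charDegree ψ ^ 2) := by
  have := Fintype.ofFinite G
  have := Fintype.ofFinite N
  rcases frob_quot_dichotomy' φ A hcomm hF N hN (isClassFunction_of_isIrr hψ) with ⟨lam, h⟩ | h
  · left
    let f : N →* A := (φ.comp N.subtype).codRestrict A (fun n => (hN _).1 n.2)
    have hl := isIrr_unitsHom (lam.comp f)
    have h1 : IsIrrCharacter N (fun n : N => ψ n * (lam ⟨φ n, (hN _).1 n.2⟩ : ℂ)) :=
      isIrr_mul_of_one_eq_one hψ (isCharacter_of_isIrr hl) (by show (((lam.comp f) 1 : ℂˣ) : ℂ) = 1; rw [map_one, Units.val_one])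
    refine ⟨_, isIrr_indFun_of_inertia_le N h1 h, ?_⟩
    rw [deg_ind N (isCharacter_of_isIrr h1)]
    congr 1
    apply deg_congr
    have : (⟨φ (1 : N), (hN _).1 (1 : N).2⟩ : A) = 1 := Subtype.ext (by simp)
    simp only [this, map_one, Units.val_one, mul_one]
  · exact Or.inr ⟨h, index_dvd_deg_sq_of_vanish (φ.ker.subgroupOf N) hψ fun n hn => h n hn⟩

/-- The `p`-group alternative for a minimal nonabelian quotient `G / K`. -/
def CaseA (G : Type*) [Group G] (K : Subgroup G) [K.Normal] (p : ℕ) (Z : Subgroup G)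
    (χ : G → ℂ) : Prop :=
  p.Prime ∧ IsPGroup p (G ⧸ K) ∧ Z.Normal ∧ K ≤ Z ∧ _root_.commutator G ≤ Z ∧
    (∀ g, g ∈ Z ↔ ∀ x, ⁅g, x⁆ ∈ K) ∧ IsIrrCharacter G χ ∧ charDegree χ ≠ 1 ∧ cker χ = K ∧
    (∀ g, g ∉ Z → χ g = 0) ∧ (∀ z ∈ Z, ‖χ z‖ = ‖χ 1‖) ∧ charDegree χ ^ 2 = Z.index

/-- The Frobenius alternative for a minimal nonabelian quotient `G / K`. -/
def CaseB (G : Type*) [Group G] (K : Subgroup G) (p : ℕ) (N : Subgroup G) : Prop :=
  p.Prime ∧ N.Normal ∧ K ≤ N ∧ _root_.commutator G ≤ N ∧ ⁅N, N⁆ ≤ K ∧ ¬ p ∣ N.index ∧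
    N.index ≠ 1 ∧ p ∣ K.relIndex N ∧ (∀ x ∈ N, x ^ p ∈ K) ∧
    (∀ x ∈ N, x ∉ K → ∀ g, ⁅g, x⁆ ∈ K → g ∈ N) ∧
    (∃ χ, IsIrrCharacter G χ ∧ cker χ = K ∧ charDegree χ = N.index) ∧
    ∀ ψ : N → ℂ, IsIrrCharacter N ψ →
      (∃ χ, IsIrrCharacter G χ ∧ charDegree χ = N.index * charDegree ψ) ∨
        ((∀ n : N, (n : G) ∉ K → ψ n = 0) ∧ K.relIndex N ∣ charDegree ψ ^ 2)

theorem cker_infl_eq [Finite G] (K : Subgroup G) [K.Normal] {χ : G ⧸ K → ℂ}
    (hχ : IsCharacter (G ⧸ K) χ) (h : cker χ = ⊥) : cker (fun g : G => χ (g : G ⧸ K)) = K := by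
  have := cker_comp (QuotientGroup.mk' K) hχ
  rw [h, MonoidHom.comap_bot, QuotientGroup.ker_mk'] at this
  exact this

theorem JNA.cases_quotient [Finite G] (K : Subgroup G) [K.Normal] [Group.IsSolvable (G ⧸ K)]
    (h : JNA (G ⧸ K)) : (∃ p Z χ, CaseA G K p Z χ) ∨ ∃ p N, CaseB G K p N := by
  obtain ⟨χ, hχ, hχ1⟩ := exists_irr_deg_ne_one h.ne
  have hk := cker_infl_eq K (isCharacter_of_isIrr hχ) (h.cker_eq_bot hχ hχ1)
  have hcm : ∀ L : Subgroup (G ⧸ K), _root_.commutator (G ⧸ K) ≤ L →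
      _root_.commutator G ≤ L.comap (QuotientGroup.mk' K) := fun L hL => by
    rw [← map_le_iff_le_comap, map_commutator_of_surjective (QuotientGroup.mk'_surjective K)]
    exact hL
  have hcomm : ∀ g x : G, ⁅g, x⁆ ∈ K ↔ (g : G ⧸ K) * x = x * g := fun g x => by
    rw [← QuotientGroup.eq_one_iff, ← commutatorElement_eq_one_iff_mul_comm]
    rfl
  by_cases hZ : center (G ⧸ K) = ⊥
  · right
    obtain ⟨p, hp, hNp, hexp, hNc, hF, hnd, hdeg⟩ := h.caseB hZ
    have := Fact.mk hp
    refine ⟨p, (_root_.commutator (G ⧸ K)).comap (QuotientGroup.mk' K), hp, inferInstance,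
      SolvStruct.le_comap_mk' K _, hcm _ le_rfl, ?_, ?_, ?_, ?_, ?_, ?_,
      ⟨_, isIrr_infl K hχ, hk, ?_⟩, fun ψ hψ => ?_⟩
    · rw [commutator_le]
      intro a ha b hb
      exact (hcomm a b).2 (hNc _ ha _ hb)
    · rwa [SolvStruct.index_comap_mk']
    · rw [SolvStruct.index_comap_mk', ← hdeg χ hχ hχ1]; exact hχ1
    · have h1 := Core.card_mul_relIndex_of_le
        (SolvStruct.le_comap_mk' K (_root_.commutator (G ⧸ K)))
      rw [SolvStruct.card_comap_mk'] at h1
      rw [Nat.eq_of_mul_eq_mul_left Nat.card_pos h1]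
      exact Core.dvd_card_of_isPGroup_of_ne_bot hNp h.ne
    · intro x hx
      rw [← QuotientGroup.eq_one_iff, QuotientGroup.mk_pow]
      exact hexp _ hx
    · intro x hx hxK g hg
      refine hF _ hx (fun e => hxK ((QuotientGroup.eq_one_iff x).1 e)) ?_
      rw [mem_centralizer_singleton_iff]
      exact (hcomm g x).1 hg
    · rw [deg_infl, SolvStruct.index_comap_mk', hdeg χ hχ hχ1]
    · have := frob_quot_dichotomy (QuotientGroup.mk' K) _ hNc hF _ (fun g => Iff.rfl) hψ
      rw [QuotientGroup.ker_mk'] at this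
      refine this.imp_right fun h => ⟨fun n hn => h.1 n fun e => hn ?_, h.2⟩
      exact (QuotientGroup.eq_one_iff _).1 e
  · left
    obtain ⟨p, hp, hG, hc, -, hdeg⟩ := h.caseA hZ
    obtain ⟨h0, hd⟩ := hdeg χ hχ hχ1
    refine ⟨p, (center (G ⧸ K)).comap (QuotientGroup.mk' K), _, hp, hG, inferInstance,
      SolvStruct.le_comap_mk' K _, hcm _ hc, fun g => ?_, isIrr_infl K hχ, ?_, hk,
      fun g hg => h0 _ hg, fun z hz => norm_irr_of_mem_center hχ hz, ?_⟩
    · rw [mem_comap, mem_center_iff]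
      constructor
      · intro hg x
        exact (hcomm g x).2 (hg x).symm
      · intro hg x
        obtain ⟨x, rfl⟩ := QuotientGroup.mk_surjective x
        exact ((hcomm g x).1 (hg x)).symm
    · rwa [deg_infl]
    · rw [deg_infl, SolvStruct.index_comap_mk', hd]

theorem exists_cases [Finite G] (D : Subgroup G) [D.Normal] [Group.IsSolvable (G ⧸ D)]
    (h : ¬ _root_.commutator G ≤ D) :
    ∃ (K : Subgroup G) (_ : K.Normal), D ≤ K ∧ ¬ _root_.commutator G ≤ K ∧
      ((∃ p Z χ, CaseA G K p Z χ) ∨ ∃ p N, CaseB G K p N) := by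
  obtain ⟨K, hK, hDK, hJ⟩ := exists_jna_quotient D h
  have : Group.IsSolvable (G ⧸ K) := Group.isSolvable_of_surjective
    (f := QuotientGroup.map D K (MonoidHom.id G) hDK) (QuotientGroup.map_surjective_of_surjective
      D K (MonoidHom.id G) (QuotientGroup.mk_surjective) hDK)
  exact ⟨K, hK, hDK, fun e => hJ.ne ((commutator_quotient_eq_bot_iff K).2 e), hJ.cases_quotient K⟩

theorem CaseB.dvd_deg {K N : Subgroup G} {p : ℕ} (h : CaseB G K p N) {ψ : N → ℂ}
    (hψ : IsIrrCharacter N ψ) :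
    (∃ χ, IsIrrCharacter G χ ∧ charDegree χ = N.index * charDegree ψ) ∨ p ∣ charDegree ψ := by
  obtain ⟨hp, -, -, -, -, -, -, hd, -, -, -, H⟩ := h
  exact (H ψ hψ).imp_right fun e => hp.dvd_of_dvd_pow (hd.trans e.2)

end CfsgLib.ChDeg
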