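import Mathlib
import Cfsg.Agent.Lib.ChDeg.MinNonab
import Cfsg.Agent.Lib.ChDeg.Thompson
import Cfsg.Agent.Lib.ChDeg.MonoIdx
import Cfsg.Agent.Lib.Char.Taketa
import Cfsg.Agent.Lib.Transfer.Residual
import Cfsg.Agent.Lib.Core.Frattini

/-! Quantitative Taketa theorem, normal `π`-complements from character degrees, and groups with
at most three character degrees (Isaacs 12.5, 12.6, 12.15). -/

set_option autoImplicit false

universe u

namespace CfsgLib.ChDeg

open Cfsg CfsgLib.Char CfsgLib.CharDeep Subgroup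
open scoped commutatorElement ComplexConjugate

variable {G : Type u} [Group G]

theorem isNilpotent_quotient_iff (N : Subgroup G) [N.Normal] :
    Group.IsNilpotent (G ⧸ N) ↔ ∃ n, (⊤ : Subgroup G).lowerCentralSeries n ≤ N := by
  rw [Subgroup.nilpotent_iff_lowerCentralSeries]
  refine exists_congr fun n => ?_
  rw [← map_top_of_surjective _ (QuotientGroup.mk'_surjective N), ← map_lowerCentralSeries,
    SolvStruct.map_mk'_eq_bot_iff]

theorem isNilpotent_section_iff (N M : Subgroup G) [(N.subgroupOf M).Normal] :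
    Group.IsNilpotent (M ⧸ N.subgroupOf M) ↔ ∃ n, M.lowerCentralSeries n ≤ N := by
  rw [isNilpotent_quotient_iff]
  refine exists_congr fun n => ?_
  rw [← top_subtype_lowerCentralSeries M, map_le_iff_le_comap]
  rfl

theorem isNilpotent_quotient_inf (M N : Subgroup G) [M.Normal] [N.Normal]
    (hM : Group.IsNilpotent (G ⧸ M)) (hN : Group.IsNilpotent (G ⧸ N)) :
    Group.IsNilpotent (G ⧸ (M ⊓ N)) := by
  rw [isNilpotent_quotient_iff] at *
  obtain ⟨a, ha⟩ := hM
  obtain ⟨b, hb⟩ := hN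
  exact ⟨max a b, le_inf ((Subgroup.lowerCentralSeries_antitone _ (le_max_left a b)).trans ha)
    ((Subgroup.lowerCentralSeries_antitone _ (le_max_right a b)).trans hb)⟩

theorem derivedSeries_quotient_eq_bot_iff (N : Subgroup G) [N.Normal] (n : ℕ) :
    derivedSeries (G ⧸ N) n = ⊥ ↔ derivedSeries G n ≤ N := by
  rw [← map_derivedSeries_eq (QuotientGroup.mk'_surjective N), SolvStruct.map_mk'_eq_bot_iff]

/-- Quantitative form of Taketa's theorem. -/
theorem taketa_quant [Fintype G]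
    (hM : ∀ χ : G → ℂ, IsIrrCharacter G χ →
      ∃ (H : Subgroup G) (lam : H →* ℂˣ), χ = indFun H (fun h => (lam h : ℂ)))
    (S : Finset ℕ) (hS : ∀ χ, IsIrrCharacter G χ → charDegree χ ∈ S) {χ : G → ℂ}
    (hχ : IsIrrCharacter G χ) :
    derivedSeries G (S.filter (· ≤ charDegree χ)).card ≤ cker χ := by
  classical
  induction hd : charDegree χ using Nat.strong_induction_on generalizing χ with
  | _ d ih =>
  have hmem := hS χ hχ
  obtain ⟨H, lam, rfl⟩ := hM χ hχ
  have hl := isCharacter_of_isIrr (isIrr_unitsHom lam)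
  rw [hd] at hmem
  rw [deg_ind H hl, (deg_eq_one_iff hl).2 (by simp), mul_one] at hd
  have h1 : S.filter (· ≤ d) = insert d (S.filter (· < d)) := by
    ext x
    simp only [Finset.mem_filter, Finset.mem_insert]
    constructor
    · rintro ⟨h1, h2⟩
      rcases h2.eq_or_lt with h | h
      · exact Or.inl h
      · exact Or.inr ⟨h1, h⟩
    · rintro (rfl | ⟨h1, h2⟩)
      · exact ⟨hmem, le_rfl⟩
      · exact ⟨h1, h2.le⟩
  rw [h1, Finset.card_insert_of_notMem (by simp), derivedSeries_succ]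
  have := derivedSeries_normal G (S.filter (· < d)).card
  refine commutator_le_cker_indFun H lam _ fun x hx => mem_of_indFun_one_eq H ?_
  have hc := isCharacter_indFun H (isCharacter_one (G := H))
  rw [← mem_cker hc]
  refine mem_cker_of_forall hc fun ψ hψ hi => ?_
  rcases lt_or_ge (charDegree ψ) d with h | h
  · refine ih _ h hψ rfl (derivedSeries_antitone G (Finset.card_le_card ?_) hx)
    intro y hy
    simp only [Finset.mem_filter] at hy ⊢
    exact ⟨hy.1, hy.2.trans_lt h⟩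
  · have e := eq_of_inner_ne_zero_of_deg_le hc hψ hi
      (by rwa [deg_ind H isCharacter_one, deg_one, mul_one, hd])
    have h2 : classInner (indFun H (fun _ => 1)) (fun _ => 1) ≠ 0 := by
      have := Fintype.ofFinite H
      rw [classInner_indFun_left H _ (isClassFunction_const 1), classInner_one_one]
      exact one_ne_zero
    rw [e] at h2
    rw [irr_eq_of_classInner_ne_zero hψ isIrr_one h2, cker_one]
    exact mem_top x

theorem taketa_card [Fintype G]
    (hM : ∀ χ : G → ℂ, IsIrrCharacter G χ →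
      ∃ (H : Subgroup G) (lam : H →* ℂˣ), χ = indFun H (fun h => (lam h : ℂ)))
    (S : Finset ℕ) (hS : ∀ χ, IsIrrCharacter G χ → charDegree χ ∈ S) :
    derivedSeries G S.card = ⊥ := by
  rw [eq_bot_iff]
  intro x hx
  exact eq_one_of_forall_mem_cker fun ψ hψ => taketa_quant hM S hS hψ
    (derivedSeries_antitone G (Finset.card_filter_le _ _) hx)

/-- Abelian-by-nilpotent groups are M-groups. -/
theorem monomial_of_comm_of_nilpotent [Fintype G] (A : Subgroup G) [A.Normal]
    (hA : ∀ a ∈ A, ∀ b ∈ A, a * b = b * a) (hN : Group.IsNilpotent (G ⧸ A)) (χ : G → ℂ)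
    (hχ : IsIrrCharacter G χ) :
    ∃ (H : Subgroup G) (lam : H →* ℂˣ), χ = indFun H (fun h => (lam h : ℂ)) := by
  refine monomial_of_class (fun X _ => ∃ A : Subgroup X, A.Normal ∧
    (∀ a ∈ A, ∀ b ∈ A, a * b = b * a) ∧ ∃ n, (⊤ : Subgroup X).lowerCentralSeries n ≤ A)
    ?_ ?_ G ⟨A, inferInstance, hA, (isNilpotent_quotient_iff A).1 hN⟩ χ hχ
  · rintro X _ _ H ⟨A, hAn, hA, n, hn⟩
    refine ⟨A.subgroupOf H, inferInstance, fun a ha b hb => Subtype.ext (hA _ ha _ hb), n, ?_⟩
    change _ ≤ A.comap H.subtype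
    rw [← map_le_iff_le_comap, top_subtype_lowerCentralSeries]
    exact (lowerCentralSeries_mono n le_top).trans hn
  · rintro X _ _ ⟨A, hAn, hA, n, hn⟩ K _ hK
    have hs := QuotientGroup.mk'_surjective K
    by_cases hc : A.map (QuotientGroup.mk' K) ≤ center (X ⧸ K)
    · have : Group.IsNilpotent (X ⧸ K) := by
        apply Group.of_quotient_center_nilpotent
        rw [isNilpotent_quotient_iff]
        refine ⟨n, le_trans ?_ hc⟩
        rw [← map_top_of_surjective _ hs, ← map_lowerCentralSeries]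
        exact map_mono hn
      exact exists_normal_comm_not_le_center _ hK
    · refine ⟨_, hAn.map _ hs, Core.isMulCommutative_iff_forall.2 ?_, hc⟩
      rintro _ ⟨a, ha, rfl⟩ _ ⟨b, hb, rfl⟩
      rw [← map_mul, ← map_mul, hA a ha b hb]

/-- A normal `π`-complement with nilpotent quotient, when every prime of `π` divides every
nonlinear degree. -/
theorem exists_normal_pi_complement [Finite G] (S : Finset ℕ) (hS : ∀ p ∈ S, p.Prime)
    (h : ∀ p ∈ S, ∀ χ, IsIrrCharacter G χ → charDegree χ ≠ 1 → p ∣ charDegree χ) :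
    ∃ (M : Subgroup G) (_ : M.Normal), (∀ p ∈ S, ¬ p ∣ Nat.card M) ∧
      (∀ q, q.Prime → q ∣ M.index → q ∈ S) ∧ Group.IsNilpotent (G ⧸ M) := by
  classical
  induction S using Finset.induction_on with
  | empty =>
    refine ⟨⊤, inferInstance, by simp, fun q hq hd => ?_, ?_⟩
    · rw [index_top] at hd
      exact absurd hd hq.not_dvd_one
    · have : Subsingleton (G ⧸ (⊤ : Subgroup G)) := QuotientGroup.subsingleton_quotient_top
      infer_instance
  | insert p S hp ih =>
    obtain ⟨M, hM, h1, h2, h3⟩ := ih (fun q hq => hS q (Finset.mem_insert_of_mem hq))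
      (fun q hq => h q (Finset.mem_insert_of_mem hq))
    have hpp := hS p (Finset.mem_insert_self _ _)
    have := Fact.mk hpp
    have := Transfer.pResidual_normal p G
    refine ⟨M ⊓ pResidual p G, inferInstance, fun q hq => ?_, fun q hq hd => ?_,
      isNilpotent_quotient_inf _ _ h3 (Transfer.isPGroup_quotient_pResidual.isNilpotent)⟩
    · rcases Finset.mem_insert.1 hq with rfl | hq
      · exact fun e => not_dvd_card_pResidual hpp (h q hq) (e.trans (card_dvd_of_le inf_le_right))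
      · exact fun e => h1 q hq (e.trans (card_dvd_of_le inf_le_left))
    · obtain ⟨k, hk⟩ := Transfer.exists_index_pResidual (G := G) (p := p)
      rcases (Nat.Prime.dvd_mul hq).1 (hd.trans (index_inf_dvd_mul _ _)) with e | e
      · exact Finset.mem_insert_of_mem (h2 q hq e)
      · rw [hk] at e
        rw [(Nat.prime_dvd_prime_iff_eq hq hpp).1 (hq.dvd_of_dvd_pow e)]
        exact Finset.mem_insert_self _ _

theorem exists_deg_dvd_of_normal [Finite G] (N : Subgroup G) [N.Normal] {θ : N → ℂ}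
    (hθ : IsIrrCharacter N θ) : ∃ χ, IsIrrCharacter G χ ∧
      ∃ e, e ∣ N.index ∧ charDegree χ = e * charDegree θ := by
  have := Fintype.ofFinite N
  obtain ⟨χ, hχ, h⟩ := exists_irr_over N hθ
  exact ⟨χ, hχ, exists_deg_eq_mul N hχ hθ h⟩

theorem comm_of_forall_deg_eq_one' [Finite G] {N : Subgroup G}
    (h : ∀ θ : N → ℂ, IsIrrCharacter N θ → charDegree θ = 1) :
    ∀ a ∈ N, ∀ b ∈ N, a * b = b * a := fun a ha b hb =>
  congrArg Subtype.val (comm_of_forall_deg_eq_one h ⟨a, ha⟩ ⟨b, hb⟩)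

/-- With two degrees `1, m` there is an abelian normal `π(m)`-complement with nilpotent quotient. -/
theorem exists_comm_complement_of_two_deg [Finite G] {m : ℕ}
    (hcd : ∀ χ, IsIrrCharacter G χ → charDegree χ = 1 ∨ charDegree χ = m) (hm0 : m ≠ 0) :
    ∃ (A : Subgroup G) (_ : A.Normal), (∀ a ∈ A, ∀ b ∈ A, a * b = b * a) ∧
      (Nat.card A).Coprime m ∧ (∀ q, q.Prime → q ∣ A.index → q ∣ m) ∧
      Group.IsNilpotent (G ⧸ A) := by
  obtain ⟨A, hA, h1, h2, h3⟩ := exists_normal_pi_complement (G := G) m.primeFactors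
    (fun p hp => Nat.prime_of_mem_primeFactors hp) (fun p hp χ hχ h => by
      rw [(hcd χ hχ).resolve_left h]; exact Nat.dvd_of_mem_primeFactors hp)
  have hcop : (Nat.card A).Coprime m := by
    refine Nat.coprime_of_dvd fun q hq e1 e2 => h1 q ?_ e1
    exact Nat.mem_primeFactors.2 ⟨hq, e2, hm0⟩
  refine ⟨A, hA, comm_of_forall_deg_eq_one' fun θ hθ => ?_, hcop,
    fun q hq e => Nat.dvd_of_mem_primeFactors (h2 q hq e), h3⟩
  obtain ⟨χ, hχ, e, -, he⟩ := exists_deg_dvd_of_normal A hθ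
  rcases hcd χ hχ with h | h
  · exact Nat.eq_one_of_mul_eq_one_left (he.symm.trans h)
  · exact Nat.eq_one_of_dvd_coprimes hcop (deg_dvd_card hθ) ⟨e, by rw [← h, he, mul_comm]⟩

theorem isSolvable_of_comm_of_quotient (A : Subgroup G) [A.Normal]
    (hA : ∀ a ∈ A, ∀ b ∈ A, a * b = b * a) [Group.IsSolvable (G ⧸ A)] : Group.IsSolvable G := by
  have : Group.IsSolvable A :=
    Group.isSolvable_of_comm fun a b => Subtype.ext (hA a a.2 b b.2)
  exact Group.isSolvable_of_ker_le_range A.subtype (QuotientGroup.mk' A) (by simp)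

theorem deg_le_index_of_commutator_le_cker [Finite G] {χ : G → ℂ} (hχ : IsIrrCharacter G χ)
    (U : Subgroup G) (h : ⁅U, U⁆ ≤ cker χ) : charDegree χ ≤ U.index := by
  have := Fintype.ofFinite U
  obtain ⟨θ, hθ, hi⟩ := exists_irr_under U hχ
  have h1 := cker_le_of_inner_ne_zero (isCharacter_restrict U (isCharacter_of_isIrr hχ)) hθ hi
  rw [cker_res U (isCharacter_of_isIrr hχ)] at h1
  have h2 : charDegree θ = 1 := by
    rw [deg_eq_one_iff_commutator_le hθ]
    refine le_trans ?_ h1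
    change _ ≤ (cker χ).comap U.subtype
    rw [← map_le_iff_le_comap, map_subtype_commutator]
    exact h
  have := deg_le_index_mul_of_inner hχ U (isCharacter_of_isIrr hθ) hi
  rwa [h2, mul_one] at this

theorem mem_centralizer_of_forall_mem_inertia [Finite G] (A : Subgroup G) [hAn : A.Normal]
    (hA : ∀ a ∈ A, ∀ b ∈ A, a * b = b * a) {g : G}
    (h : ∀ θ : A → ℂ, IsIrrCharacter A θ → g ∈ inertia A θ) : g ∈ centralizer (A : Set G) := by
  intro a ha
  have h1 : IsConj (⟨g * a * g⁻¹, hAn.conj_mem a ha g⟩ : A) ⟨a, ha⟩ :=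
    isConj_of_irr_eq fun θ hθ => (mem_inertia' A).1 (h θ hθ) ⟨a, ha⟩
  obtain ⟨c, hc⟩ := isConj_iff.1 h1
  have h2 : (c : G) * (g * a * g⁻¹) * (c : G)⁻¹ = a := congrArg Subtype.val hc
  rw [hA _ c.2 _ (hAn.conj_mem a ha g), mul_inv_cancel_right] at h2
  exact (mul_inv_eq_iff_eq_mul.1 h2).symm

theorem eq_of_le_of_index_le [Finite G] {T U : Subgroup G} (h : T ≤ U) (h2 : T.index ≤ U.index) :
    T = U := by
  have h1 := relIndex_mul_index h
  have h3 : 0 < U.index := Nat.pos_of_ne_zero U.index_ne_zero_of_finite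
  have h4 : T.relIndex U ≠ 0 := (T.subgroupOf U).index_ne_zero_of_finite
  have h5 : T.relIndex U = 1 := by
    by_contra h5
    have : 2 ≤ T.relIndex U := by omega
    nlinarith
  exact le_antisymm h (relIndex_eq_one.1 h5)

theorem commutator_mem_iff_commute (K : Subgroup G) [K.Normal] (g x : G) :
    ⁅g, x⁆ ∈ K ↔ Commute (g : G ⧸ K) x := by
  rw [← QuotientGroup.eq_one_iff, ← commutatorElement_eq_one_iff_commute]
  rfl

theorem commutator_sup_le {K T Z : Subgroup G} [K.Normal] [Z.Normal] (hT : ⁅T, T⁆ ≤ K)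
    (hZ : ∀ z ∈ Z, ∀ x, ⁅z, x⁆ ∈ K) : ⁅T ⊔ Z, T ⊔ Z⁆ ≤ K := by
  rw [commutator_le] at hT ⊢
  intro u hu v hv
  obtain ⟨t, ht, z, hz, rfl⟩ := mem_sup_of_normal_right.1 hu
  obtain ⟨t', ht', z', hz', rfl⟩ := mem_sup_of_normal_right.1 hv
  simp only [commutator_mem_iff_commute, QuotientGroup.mk_mul] at hT hZ ⊢
  exact ((hT t ht t' ht').mul_right (hZ z' hz' t).symm).mul_left
    ((hZ z hz t').mul_right (hZ z hz z'))

theorem CaseB.comm_of_two_deg [Finite G] {m : ℕ}
    (hcd : ∀ χ, IsIrrCharacter G χ → charDegree χ = 1 ∨ charDegree χ = m)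
    {K N : Subgroup G} {p : ℕ} (h : CaseB G K p N) :
    (∀ a ∈ N, ∀ b ∈ N, a * b = b * a) ∧ N.index = m := by
  have h' := h
  obtain ⟨hp, hN, -, -, -, hnd, h1, -, -, -, ⟨χ, hχ, -, hd⟩, -⟩ := h'
  have hm : N.index = m := by
    rcases hcd χ hχ with e | e
    · exact absurd (hd.symm.trans e) h1
    · exact hd.symm.trans e
  refine ⟨comm_of_forall_deg_eq_one' fun ψ hψ => ?_, hm⟩
  rcases h.dvd_deg hψ with ⟨ξ, hξ, e⟩ | e
  · rcases hcd ξ hξ with e' | e'
    · exact Nat.eq_one_of_mul_eq_one_left (e.symm.trans e')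
    · rw [e, ← hm] at e'
      exact (Nat.mul_eq_left N.index_ne_zero_of_finite).1 e'
  · obtain ⟨ξ, hξ, f, -, hf⟩ := exists_deg_dvd_of_normal N hψ
    have : p ∣ charDegree ξ := hf ▸ e.mul_left f
    rcases hcd ξ hξ with e' | e'
    · exact absurd (e' ▸ this) hp.not_dvd_one
    · exact absurd (hm ▸ e' ▸ this) hnd

theorem CaseA.deg_pow [Finite G] {K Z : Subgroup G} [K.Normal] {p : ℕ} {χ : G → ℂ}
    (h : CaseA G K p Z χ) : (∃ k, K.index = p ^ k) ∧ ∃ e, 0 < e ∧ charDegree χ = p ^ e := by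
  obtain ⟨hp, hG, -, hKZ, -, -, hχ, h1, -, -, -, hd⟩ := h
  have := Fact.mk hp
  obtain ⟨k, hk⟩ := hG.exists_card_eq
  refine ⟨⟨k, hk⟩, ?_⟩
  have : charDegree χ ∣ p ^ k := by
    rw [← hk]
    exact (dvd_pow_self _ two_ne_zero).trans (hd ▸ index_dvd_of_le hKZ)
  obtain ⟨e, -, he⟩ := (Nat.dvd_prime_pow hp).1 this
  refine ⟨e, Nat.pos_of_ne_zero ?_, he⟩
  rintro rfl
  exact h1 he

/-- The inertia group of a non-invariant character of an abelian normal subgroup of order prime
to `m`, when the degrees are `1, m`. -/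
theorem inertia_of_two_deg [Finite G] {m : ℕ}
    (hcd : ∀ χ, IsIrrCharacter G χ → charDegree χ = 1 ∨ charDegree χ = m)
    (A : Subgroup G) [A.Normal] (hA : ∀ a ∈ A, ∀ b ∈ A, a * b = b * a)
    (hcop : (Nat.card A).Coprime m) {θ : A → ℂ} (hθ : IsIrrCharacter A θ)
    (hT : inertia A θ ≠ ⊤) :
    (inertia A θ).index = m ∧ ⁅inertia A θ, inertia A θ⁆ ≤ A := by
  have := Fintype.ofFinite G
  have := Fintype.ofFinite A
  set T := inertia A θ with hTdef
  have := Fintype.ofFinite T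
  have hAT : A ≤ T := le_inertia A (isClassFunction_of_isIrr hθ)
  have key : ∀ ψ : T → ℂ, IsIrrCharacter T ψ → classInner (fun n : A => ψ ⟨n, hAT n.2⟩) θ ≠ 0 →
      T.index * charDegree ψ = m := by
    intro ψ hψ hi
    have h1 := isIrr_indFun_inertia A T hAT hθ hTdef hψ hi
    have h2 := hcd _ h1
    rw [deg_ind T (isCharacter_of_isIrr hψ)] at h2
    exact h2.resolve_left fun e => hT (index_eq_one.1 (Nat.eq_one_of_mul_eq_one_right e))
  have : IsMulCommutative A := Core.isMulCommutative_iff_forall.2 hA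
  have hθ1 := irr_one_eq_one_of_comm hθ
  obtain ⟨lam, rfl⟩ := exists_unitsHom_of_one_eq_one (isCharacter_of_isIrr hθ) hθ1
  obtain ⟨χ, hχ, hi⟩ := exists_irr_over A hθ
  obtain ⟨ψ, hψ, -, hi2⟩ := exists_irr_between' hAT (isClassFunction_of_isIrr hχ) hi
  have hres := clifford_invariant_le A T hAT hψ hθ le_rfl hi2
  have hval : ∀ a : A, ψ (inclusion hAT a) = ψ 1 * lam a := by
    intro a
    have e1 := congrFun hres a
    have e2 := congrFun hres 1
    simp only [Pi.smul_apply, smul_eq_mul, map_one, Units.val_one, mul_one] at e1 e2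
    rw [← e2] at e1
    exact e1
  obtain ⟨μ, hμ⟩ := exists_linear_ext_of_coprime (inclusion hAT) hψ lam hval
    (m := Nat.card A) (fun a => by rw [← map_pow, pow_card_eq_one', map_one]) Nat.card_pos.ne'
    (Nat.Coprime.coprime_dvd_left (Dvd.intro_left _ (key ψ hψ hi2)) hcop.symm)
  have hμi := isIrr_unitsHom μ
  have key2 : ∀ β : T → ℂ, IsIrrCharacter T β → (∀ n ∈ A.subgroupOf T, β n = β 1) →
      T.index * charDegree β = m := by
    intro β hβ hb
    have h1 := isIrr_mul_of_one_eq_one hβ (isCharacter_of_isIrr hμi) (by simp)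
    have h2 := key _ h1 (by
      have : (fun n : A => (β * fun g => (μ g : ℂ)) ⟨n, hAT n.2⟩) = β 1 • fun g => (lam g : ℂ) := by
        ext n
        simp only [Pi.mul_apply, Pi.smul_apply, smul_eq_mul]
        rw [hb ⟨n, hAT n.2⟩ n.2, ← hμ n]
        rfl
      rw [this, classInner_smul_left, classInner_irr_self hθ, mul_one]
      exact irr_one_ne_zero hβ)
    rwa [deg_mul (isCharacter_of_isIrr hβ) (isCharacter_of_isIrr hμi),
      (deg_eq_one_iff (isCharacter_of_isIrr hμi)).2 (by simp), mul_one] at h2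
  have hm := key2 _ isIrr_one (fun _ _ => rfl)
  rw [deg_one, mul_one] at hm
  refine ⟨hm, ?_⟩
  rw [← map_subtype_commutator, map_le_iff_le_comap]
  intro g hg
  refine mem_of_forall_irr (A.subgroupOf T) fun β hβ hb => ?_
  have h1 := key2 β hβ hb
  rw [← hm, Nat.mul_eq_left T.index_ne_zero_of_finite] at h1
  exact (mem_cker (isCharacter_of_isIrr hβ)).1 ((deg_eq_one_iff_commutator_le hβ).1 h1 hg)

theorem commutator_ne_bot_of_deg [Finite G] {χ : G → ℂ} (hχ : IsIrrCharacter G χ)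
    (h : charDegree χ ≠ 1) : ¬ _root_.commutator G ≤ ⊥ := fun e =>
  h ((deg_eq_one_iff_commutator_le hχ).2 (e.trans bot_le))

/-- Isaacs 12.5. -/
theorem two_deg [Finite G] {m : ℕ}
    (hcd : ∀ χ, IsIrrCharacter G χ → charDegree χ = 1 ∨ charDegree χ = m)
    (hm : ∃ χ, IsIrrCharacter G χ ∧ charDegree χ = m) (hm1 : m ≠ 1) :
    (∃ A : Subgroup G, A.Normal ∧ (∀ a ∈ A, ∀ b ∈ A, a * b = b * a) ∧ A.index = m) ∨
      ∃ p e : ℕ, p.Prime ∧ m = p ^ e ∧ ∃ P A : Subgroup G, P.Normal ∧ A.Normal ∧ IsPGroup p P ∧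
        (∀ a ∈ A, ∀ b ∈ A, a * b = b * a) ∧ P ⊓ A = ⊥ ∧ P ⊔ A = ⊤ ∧ (Nat.card A).Coprime p := by
  obtain ⟨χ₀, hχ₀, hd₀⟩ := hm
  have hm0 : m ≠ 0 := hd₀ ▸ (deg_pos hχ₀).ne'
  obtain ⟨A, hAn, hA, hcop, hidx, hnil⟩ := exists_comm_complement_of_two_deg hcd hm0
  have := isSolvable_of_comm_of_quotient A hA
  obtain ⟨K, hK, -, -, ⟨p, Z, χ, h⟩ | ⟨p, N, h⟩⟩ :=
    exists_cases (G := G) ⊥ (commutator_ne_bot_of_deg hχ₀ (hd₀ ▸ hm1))
  swap
  · exact Or.inl ⟨N, h.2.1, h.comm_of_two_deg hcd⟩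
  obtain ⟨-, e, he0, he⟩ := h.deg_pow
  obtain ⟨hp, -, -, -, -, -, hχ, hχ1, -⟩ := h
  rw [(hcd χ hχ).resolve_left hχ1] at he
  have := Fact.mk hp
  have hcp : (Nat.card A).Coprime p :=
    Nat.Coprime.coprime_dvd_right (he ▸ dvd_pow_self p he0.ne') hcop
  have hAi : ∃ k, A.index = p ^ k := ⟨_, Nat.eq_prime_pow_of_unique_prime_dvd
    A.index_ne_zero_of_finite fun {d} hd e => (Nat.prime_dvd_prime_iff_eq hd hp).1
      (hd.dvd_of_dvd_pow (he ▸ hidx d hd e))⟩
  obtain ⟨k, hk⟩ := hAi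
  obtain ⟨P⟩ : Nonempty (Sylow p G) := inferInstance
  by_cases hD : _root_.commutator G ≤ pCore p G
  · refine Or.inr ⟨p, e, hp, he, P, A,
      Normal.of_commutator_le G (hD.trans (Core.pCore_le_sylow P)), hAn, P.isPGroup', hA,
      Core.isPGroup_inf_eq_bot_of_coprime P.isPGroup' hcp,
      Core.sylow_sup_eq_top_of_isPGroup_quotient P A (IsPGroup.of_card hk), hcp⟩
  obtain ⟨K, hK, hDK, hK', ⟨q, Z, χ, h⟩ | ⟨q, N, h⟩⟩ := exists_cases (pCore p G) hD
  swap
  · exact Or.inl ⟨N, h.2.1, h.comm_of_two_deg hcd⟩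
  exfalso
  obtain ⟨⟨j, hj⟩, f, hf0, hf⟩ := h.deg_pow
  obtain ⟨hq, -, hZ, -, hGZ, hZK, hχ, hχ1, hker, -⟩ := h
  have hχm := (hcd χ hχ).resolve_left hχ1
  have hAK : A ≤ K := by
    refine Core.le_of_coprime_card_index ?_
    rw [hj]
    exact Nat.Coprime.pow_right _ (Nat.Coprime.coprime_dvd_right
      (hχm ▸ hf ▸ dvd_pow_self q hf0.ne') hcop)
  have hZC : Z ≤ centralizer (A : Set G) := by
    intro z hz
    refine mem_centralizer_of_forall_mem_inertia A hA fun θ hθ => ?_
    by_cases hT : inertia A θ = ⊤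
    · rw [hT]; exact mem_top z
    obtain ⟨h1, h2⟩ := inertia_of_two_deg hcd A hA hcop hθ hT
    have h3 := deg_le_index_of_commutator_le_cker hχ (inertia A θ ⊔ Z)
      (hker ▸ commutator_sup_le (h2.trans hAK) fun z hz => (hZK z).1 hz)
    rw [eq_of_le_of_index_le (le_sup_left : _ ≤ inertia A θ ⊔ Z) (by rwa [h1, ← hχm])]
    exact mem_sup_right hz
  have hC : Group.IsNilpotent (centralizer (A : Set G)) := by
    refine Subgroup.isNilpotent_of_ker_le_center ((QuotientGroup.mk' A).comp (Subgroup.subtype _)) ?_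
    intro x hx
    rw [mem_center_iff]
    intro y
    exact Subtype.ext (y.2 x ((QuotientGroup.eq_one_iff _).1 hx)).symm
  refine hK' (hGZ.trans (hZC.trans ((Core.le_fittingSubgroup hC).trans
    ((Core.fittingSubgroup_le_pCore_sup_pPrimeCore hp).trans (sup_le hDK (le_trans ?_ hAK))))))
  refine Core.le_of_coprime_card_index ?_
  rw [hk]
  exact Nat.Coprime.pow_right _ (Core.coprime_card_pPrimeCore p G)

/-- Isaacs 12.6. -/
theorem derived_two_of_two_deg [Finite G] {m : ℕ}
    (hcd : ∀ χ, IsIrrCharacter G χ → charDegree χ = 1 ∨ charDegree χ = m) :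
    derivedSeries G 2 = ⊥ := by
  classical
  have := Fintype.ofFinite G
  rcases eq_or_ne m 0 with rfl | hm0
  · refine eq_bot_iff.2 ((derivedSeries_antitone G one_le_two).trans ?_)
    rw [derivedSeries_one, le_bot_iff, _root_.commutator_eq_bot_iff]
    exact ⟨⟨comm_of_forall_deg_eq_one fun χ hχ => (hcd χ hχ).resolve_right (deg_pos hχ).ne'⟩⟩
  obtain ⟨A, hAn, hA, -, -, hnil⟩ := exists_comm_complement_of_two_deg hcd hm0
  have := taketa_card (monomial_of_comm_of_nilpotent A hA hnil) {1, m}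
    (fun χ hχ => by simpa using hcd χ hχ)
  exact eq_bot_iff.2 ((derivedSeries_antitone G Finset.card_le_two).trans this.le)

/-- Burnside–Brauer: irreducible characters trivial on the kernel of `χ` occur in powers of `χ`. -/
theorem exists_pow_inner_ne_zero [Fintype G] {χ ψ : G → ℂ} (hχ : IsCharacter G χ)
    (hψ : IsIrrCharacter G ψ) (h : cker χ ≤ cker ψ) : ∃ k : ℕ, classInner (χ ^ k) ψ ≠ 0 := by
  classical
  by_contra hc
  push Not at hc
  have h1 : ∀ f : Polynomial ℂ, classInner (fun g => f.eval (χ g)) ψ = 0 := by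
    intro f
    have : (fun g => f.eval (χ g)) =
        ∑ i ∈ Finset.range (f.natDegree + 1), f.coeff i • χ ^ i := by
      ext g
      simp [Polynomial.eval_eq_sum_range, Finset.sum_apply]
    rw [this, classInner_sum_left]
    simp [classInner_smul_left, hc]
  set T := (Finset.univ.image χ).erase (χ 1)
  have h2 := h1 (∏ a ∈ T, (Polynomial.X - Polynomial.C a))
  simp only [Polynomial.eval_prod, Polynomial.eval_sub, Polynomial.eval_X, Polynomial.eval_C] at h2
  rw [classInner_def, mul_eq_zero, or_iff_right (inv_ne_zero natCard_ne_zero),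
    ← Finset.sum_subset (Finset.filter_subset (· ∈ cker χ) _),
    Finset.sum_congr rfl (g := fun _ => (∏ a ∈ T, (χ 1 - a)) * conj (ψ 1))] at h2
  · rw [Finset.sum_const, nsmul_eq_mul] at h2
    refine mul_ne_zero ?_ (mul_ne_zero ?_ ?_) h2
    · exact_mod_cast Finset.card_ne_zero.2 ⟨1, by simp⟩
    · exact Finset.prod_ne_zero_iff.2 fun a ha => sub_ne_zero.2 (Finset.ne_of_mem_erase ha).symm
    · simpa using irr_one_ne_zero hψ
  · intro g hg
    have hg' := (Finset.mem_filter.1 hg).2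
    rw [(mem_cker hχ).1 hg', (mem_cker (isCharacter_of_isIrr hψ)).1 (h hg')]
  · intro g _ hg
    have hg' : χ g ≠ χ 1 := fun e => hg (by simpa using (mem_cker hχ).2 e)
    rw [Finset.prod_eq_zero (i := χ g) (Finset.mem_erase.2 ⟨hg', by simp⟩) (sub_self _), zero_mul]

theorem exists_deg_split [Fintype G] {Θ : G → ℂ} (hΘ : IsCharacter G Θ) {m n : ℕ} (hmn : m ≠ n)
    (h : ∀ ψ, IsIrrCharacter G ψ → classInner Θ ψ ≠ 0 → charDegree ψ = m ∨ charDegree ψ = n) :
    ∃ a b : ℕ, charDegree Θ = a * m + b * n ∧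
      (∀ ψ, IsIrrCharacter G ψ → classInner Θ ψ ≠ 0 → charDegree ψ = m → 0 < a) ∧
      (∀ ψ, IsIrrCharacter G ψ → classInner Θ ψ ≠ 0 → charDegree ψ = n → 0 < b) := by
  classical
  obtain ⟨c, hc, hd⟩ := exists_deg_eq_sum hΘ
  have key : ∀ d, ∀ ψ, IsIrrCharacter G ψ → classInner Θ ψ ≠ 0 → charDegree ψ = d →
      0 < ∑ ξ ∈ Finset.univ.filter (fun ξ : IrrCharacter G => charDegree (ξ : G → ℂ) = d), c ξ := by
    intro d ψ hψ hi hd
    refine lt_of_lt_of_le (Nat.pos_of_ne_zero fun e => hi ?_)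
      (Finset.single_le_sum (f := c) (fun _ _ => Nat.zero_le _)
        (a := ⟨ψ, hψ⟩) (by simpa using hd))
    rw [hc ⟨ψ, hψ⟩, e, Nat.cast_zero]
  refine ⟨_, _, ?_, key m, key n⟩
  rw [hd, Finset.sum_filter, Finset.sum_filter, Finset.sum_mul, Finset.sum_mul,
    ← Finset.sum_add_distrib]
  refine Finset.sum_congr rfl fun ψ _ => ?_
  by_cases h0 : c ψ = 0
  · simp [h0]
  · rcases h ψ ψ.2 (by rw [hc]; exact_mod_cast h0) with e | e
    · simp [e, hmn]
    · simp [e, hmn.symm]

theorem classInner_mul_swap [Fintype G] (χ φ ψ : G → ℂ) :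
    classInner (χ * φ) ψ = classInner φ (fun g => conj (χ g) * ψ g) := by
  rw [mul_comm, classInner_mul_left]

theorem classInner_conj_mul_swap [Fintype G] (χ φ ψ : G → ℂ) :
    classInner (fun g => conj (χ g) * φ g) ψ = classInner φ (χ * ψ) := by
  have := classInner_mul_swap (fun g => conj (χ g)) φ ψ
  simp only [Complex.conj_conj] at this
  exact this

theorem exists_constituent_of_mul [Fintype G] {Θ φ ψ : G → ℂ} (hΘ : IsCharacter G Θ)
    (h : classInner (Θ * φ) ψ ≠ 0) :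
    ∃ ξ, IsIrrCharacter G ξ ∧ classInner Θ ξ ≠ 0 ∧ classInner (ξ * φ) ψ ≠ 0 := by
  classical
  obtain ⟨c, hc, hs⟩ := exists_char_eq_sum_nat hΘ
  by_contra hn
  push Not at hn
  apply h
  rw [hs, Finset.sum_mul, classInner_sum_left]
  refine Finset.sum_eq_zero fun ξ _ => ?_
  rw [smul_mul_assoc, classInner_smul_left]
  by_cases h0 : c ξ = 0
  · simp [h0]
  · rw [hn ξ ξ.2 (by rw [hc]; exact_mod_cast h0), mul_zero]

theorem deg_conj (χ : G → ℂ) [Finite G] (hχ : IsCharacter G χ) :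
    charDegree (fun g => conj (χ g)) = charDegree χ :=
  deg_congr (conj_char_one hχ)

end CfsgLib.ChDeg
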