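import Mathlib
import Cfsg.Agent.Lib.ChDeg.TwoDeg

/-! The Broline–Garrison theorem and Garrison's bound for the Fitting height
(Isaacs 12.17, 12.19, 12.21). -/

set_option autoImplicit false

universe u

namespace CfsgLib.ChDeg

open Cfsg CfsgLib.Char CfsgLib.CharDeep Subgroup
open scoped commutatorElement ComplexConjugate

variable {G : Type u} [Group G]

theorem frattini_rel [Finite G] {q : ℕ} [Fact q.Prime] {Q L : Subgroup G} [L.Normal] (hQL : Q ≤ L)
    (hQ : IsPGroup q Q) (hi : ¬ q ∣ Q.relIndex L) : normalizer (Q : Set G) ⊔ L = ⊤ := by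
  have := Sylow.normalizer_sup_eq_top ((hQ.comap_subtype (K := L)).toSylow hi)
  change normalizer (((Q.comap L.subtype).map L.subtype : Subgroup G) : Set G) ⊔ L = ⊤ at this
  rwa [map_comap_eq, range_subtype, inf_eq_right.2 hQL] at this

theorem isIrr_res_of_sup_cker [Finite G] {χ : G → ℂ} (hχ : IsIrrCharacter G χ) (H : Subgroup G)
    (h : H ⊔ cker χ = ⊤) : IsIrrCharacter H (fun x : H => χ x) := by
  have hs : Function.Surjective ((QuotientGroup.mk' (cker χ)).comp H.subtype) := by
    intro y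
    obtain ⟨g, rfl⟩ := QuotientGroup.mk_surjective y
    obtain ⟨a, ha, k, hk, rfl⟩ := mem_sup_of_normal_right.1 (h ▸ mem_top g)
    exact ⟨⟨a, ha⟩, by simp [(QuotientGroup.eq_one_iff k).2 hk]⟩
  have := isIrr_comp_of_surjective _ hs (isIrr_defl hχ le_rfl)
  simpa [defl_mk (isCharacter_of_isIrr hχ) le_rfl] using this

/-- Isaacs 12.17. -/
theorem mem_normalCore_of_forall_ext [Fintype G] (H : Subgroup G) {θ : H → ℂ}
    (hθ : IsIrrCharacter H θ)
    (h : ∀ ξ, IsIrrCharacter G ξ → classInner (indFun H θ) ξ ≠ 0 → (fun x : H => ξ x) = θ)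
    (x : H) (hx : θ x ≠ 0) : (x : G) ∈ H.normalCore := by
  classical
  have := Fintype.ofFinite H
  have hθc := isCharacter_of_isIrr hθ
  have hc := isCharacter_indFun H hθc
  obtain ⟨c, hc1, hs⟩ := exists_char_eq_sum_nat hc
  have hval : ∀ y : H, indFun H θ y = (∑ ξ : IrrCharacter G, (c ξ : ℂ)) * θ y := by
    intro y
    rw [hs, Finset.sum_apply, Finset.sum_mul]
    refine Finset.sum_congr rfl fun ξ _ => ?_
    by_cases h0 : c ξ = 0
    · simp [h0]
    · rw [Pi.smul_apply, smul_eq_mul, ← h ξ ξ.2 (by rw [hc1]; exact_mod_cast h0)]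
  have h1 : (∑ ξ : IrrCharacter G, (c ξ : ℂ)) = H.index := by
    have := hval 1
    rw [coe_one, indFun_one] at this
    exact (mul_right_cancel₀ (irr_one_ne_zero hθ) this).symm
  rw [h1] at hval
  have h2 : classInner (indFun H θ) (indFun H θ) = H.index := by
    rw [classInner_indFun_left H θ (isClassFunction_indFun H θ),
      show (fun y : H => indFun H θ y) = (H.index : ℂ) • θ from funext hval,
      classInner_smul_right, classInner_irr_self hθ]
    simp
  rw [classInner_self_eq] at h2
  have h3 : (Nat.card G : ℝ)⁻¹ * ∑ g, ‖indFun H θ g‖ ^ 2 = H.index := by exact_mod_cast h2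
  have h4 : ∑ g ∈ Finset.univ.filter (· ∈ H), ‖indFun H θ g‖ ^ 2 = H.index * Nat.card G := by
    rw [Finset.sum_subtype (F := this) (Finset.univ.filter (· ∈ H)) (p := (· ∈ H)) (by simp)]
    simp only [hval, norm_mul, mul_pow, ← Finset.mul_sum, sum_norm_sq_irr hθ, Complex.norm_natCast]
    rw [← H.index_mul_card]; push_cast; ring
  have h0 : (Nat.card G : ℝ) ≠ 0 := by exact_mod_cast (Nat.card_pos (α := G)).ne'
  rw [inv_mul_eq_iff_eq_mul₀ h0, ← Finset.sum_filter_add_sum_filter_not _ (· ∈ H), h4, mul_comm,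
    add_eq_left, Finset.sum_eq_zero_iff_of_nonneg (fun _ _ => by positivity)] at h3
  intro g
  by_contra hg
  have := h3 _ (Finset.mem_filter.2 ⟨Finset.mem_univ _, hg⟩)
  rw [isClassFunction_indFun H θ, hval, sq_eq_zero_iff, norm_eq_zero] at this
  exact mul_ne_zero (by exact_mod_cast H.index_ne_zero_of_finite) hx this

theorem broline_aux [Finite G] {χ : G → ℂ} (hχ : IsIrrCharacter G χ) (N : Subgroup G) [N.Normal]
    {q : ℕ} [Fact q.Prime] (Q : Sylow q N)
    (hN1 : N ≤ cker χ ⊔ (Q : Subgroup N).map N.subtype)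
    (hN2 : N ≤ closure {g | χ g ≠ 0}) (hQ : ¬ ((Q : Subgroup N).map N.subtype).Normal) :
    ∃ ψ, IsIrrCharacter G ψ ∧ charDegree χ < charDegree ψ ∧ cker ψ < cker χ := by
  have := Fintype.ofFinite G
  set Q' := (Q : Subgroup N).map N.subtype with hQ'
  set K := cker χ with hK
  have hχc := isCharacter_of_isIrr hχ
  obtain ⟨H, hH, hle⟩ := Core.exists_isCoatom_ge (mt normalizer_eq_top_iff.1 hQ)
  have := Fintype.ofFinite H
  have hQH : Q' ≤ H := le_normalizer.trans hle
  have hKH : H ⊔ K = ⊤ := by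
    rw [eq_top_iff, ← Sylow.normalizer_sup_eq_top Q]
    exact sup_le (le_sup_of_le_left hle) (hN1.trans (sup_le le_sup_right (le_sup_of_le_left hQH)))
  have hθ := isIrr_res_of_sup_cker hχ H hKH
  by_cases h : ∀ ξ, IsIrrCharacter G ξ → classInner (indFun H fun x : H => χ x) ξ ≠ 0 →
      (fun x : H => ξ x) = fun x : H => χ x
  · exfalso
    have h1 := mem_normalCore_of_forall_ext H hθ h
    set M := H.normalCore
    have h2 : N ≤ K ⊔ M := by
      refine hN2.trans ((closure_le _).2 fun g hg => ?_)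
      obtain ⟨a, ha, k, hk, rfl⟩ := mem_sup_of_normal_right.1 (hKH ▸ mem_top g)
      refine mul_mem (mem_sup_right (h1 ⟨a, ha⟩ ?_)) (mem_sup_left hk)
      rwa [Set.mem_ofPred_eq, char_mul_of_mem_cker' hχc hk] at hg
    have hQN : Q' ≤ N := map_subtype_le _
    have h3 : Q' ≤ M := by
      intro x hx
      obtain ⟨k, hk, m, hm, rfl⟩ := mem_sup_of_normal_left.1 (h2 (hQN hx))
      refine mul_mem (h1 ⟨k, ?_⟩ ?_) hm
      · simpa using H.mul_mem (hQH hx) (H.inv_mem (H.normalCore_le hm))
      · rw [(mem_cker hχc).1 hk]; exact irr_one_ne_zero hχ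
    have h4 := frattini_rel (le_inf hQN h3 : Q' ≤ N ⊓ M) (Q.isPGroup'.map _) (by
      intro e
      have e2 := e.trans (Dvd.intro _ (relIndex_mul_relIndex Q' (N ⊓ M) N (le_inf hQN h3)
        inf_le_left))
      rw [relIndex, hQ', subgroupOf, comap_map_eq_self_of_injective N.subtype_injective] at e2
      exact Q.not_dvd_index e2)
    exact hH.1 (eq_top_iff.2 (h4.ge.trans (sup_le hle (inf_le_right.trans H.normalCore_le))))
  push Not at h
  obtain ⟨ψ, hψ, hi, hne⟩ := h
  have hψc := isCharacter_of_isIrr hψ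
  rw [classInner_indFun_left H _ (isClassFunction_of_isIrr hψ)] at hi
  have hi' : classInner (fun x : H => ψ x) (fun x : H => χ x) ≠ 0 :=
    fun e => hi (classInner_eq_zero_symm e)
  refine ⟨ψ, hψ, ?_, ?_⟩
  · by_contra hle
    refine hne (eq_of_inner_ne_zero_of_deg_le (isCharacter_restrict H hψc) hθ hi' ?_)
    rw [deg_res, deg_res]; omega
  · have h1 : cker ψ ≤ H := by
      by_contra hc
      have := hH.2 (H ⊔ cker ψ) (left_lt_sup.2 hc)
      exact hne (irr_eq_of_classInner_ne_zero (isIrr_res_of_sup_cker hψ H this) hθ hi')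
    have h2 := cker_le_of_inner_ne_zero (isCharacter_restrict H hψc) hθ hi'
    rw [cker_res H hψc, cker_res H hχc] at h2
    refine lt_of_le_of_ne (fun x hx => h2 (show (⟨x, h1 hx⟩ : H) ∈ _ from hx)) fun e => ?_
    rw [e] at h1
    exact hH.1 (by rw [← hKH, sup_eq_left.2 h1])

theorem closure_ne_zero_normal {χ : G → ℂ} (hχ : IsClassFunction G χ) :
    (closure {g | χ g ≠ 0}).Normal := by
  refine ⟨fun x hx g => ?_⟩
  have : closure {g | χ g ≠ 0} ≤ (closure {g | χ g ≠ 0}).comap (MulAut.conj g).toMonoidHom := by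
    rw [closure_le]
    intro y hy
    refine subset_closure ?_
    change χ (g * y * g⁻¹) ≠ 0
    rwa [hχ]
  exact this hx

theorem cker_lt_closure_ne_zero [Finite G] {χ : G → ℂ} (hχ : IsIrrCharacter G χ)
    (h : cker χ ≠ ⊤) : cker χ < closure {g | χ g ≠ 0} := by
  have hχc := isCharacter_of_isIrr hχ
  refine lt_of_le_of_ne (fun k hk => subset_closure ?_) fun e => h ?_
  · change χ k ≠ 0
    rw [(mem_cker hχc).1 hk]; exact irr_one_ne_zero hχ
  · have := Fintype.ofFinite G
    have := Fintype.ofFinite (cker χ)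
    have h1 := classInner_res_of_vanish (cker χ) (f := χ) (fun g hg => by
      by_contra h0
      exact hg (e ▸ subset_closure h0)) (fun _ => 1)
    have h2 : (fun k : cker χ => χ k) = χ 1 • fun _ => (1 : ℂ) := by
      ext k; simp [(mem_cker hχc).1 k.2]
    rw [h2, classInner_smul_left, classInner_one_one, mul_one] at h1
    have h3 : classInner χ (fun _ => 1) ≠ 0 := fun e => by
      rw [e, mul_zero] at h1; exact irr_one_ne_zero hχ h1
    rw [irr_eq_of_classInner_ne_zero hχ isIrr_one h3, cker_one]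

/-- Broline–Garrison, Isaacs 12.19. -/
theorem broline_garrison [Finite G] {χ : G → ℂ} (hχ : IsIrrCharacter G χ)
    (h : ¬ cker χ ≤ fittingSubgroup G ∨
      (cker χ = fittingSubgroup G ∧ Group.IsSolvable (G ⧸ cker χ) ∧ cker χ ≠ ⊤)) :
    ∃ ψ, IsIrrCharacter G ψ ∧ charDegree χ < charDegree ψ ∧ cker ψ < cker χ := by
  have hχc := isCharacter_of_isIrr hχ
  rcases h with h | ⟨h1, h2, h3⟩
  · have h1 : ¬ Group.IsNilpotent (cker χ) := fun e => h (Core.le_fittingSubgroup e)
    by_contra hc
    apply h1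
    refine Core.isNilpotent_of_forall_sylow_normal fun q _ Q => ?_
    by_contra hQ
    refine hc (broline_aux hχ (cker χ) Q le_sup_left (fun k hk => subset_closure ?_) fun e => hQ ?_)
    · change χ k ≠ 0
      rw [(mem_cker hχc).1 hk]; exact irr_one_ne_zero hχ
    · have := e.comap (cker χ).subtype
      rwa [comap_map_eq_self_of_injective (cker χ).subtype_injective] at this
  · set K := cker χ with hK
    have hV := closure_ne_zero_normal (isClassFunction_of_isIrr hχ)
    have hlt := cker_lt_closure_ne_zero hχ h3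
    have hs := QuotientGroup.mk'_surjective K
    have := hV.map _ hs
    obtain ⟨q, N, hq, hN, hN0, hNV, hE, -⟩ := Core.exists_elementaryAbelian_minimal_normal_le
      (K := (closure {g | χ g ≠ 0}).map (QuotientGroup.mk' K))
      (by rw [Ne, SolvStruct.map_mk'_eq_bot_iff]; exact hlt.not_ge)
    have := Fact.mk hq
    set N' := N.comap (QuotientGroup.mk' K)
    have hKN : K ≤ N' := SolvStruct.le_comap_mk' K N
    obtain ⟨Q⟩ : Nonempty (Sylow q N') := inferInstance
    have hsup : N' ≤ K ⊔ (Q : Subgroup N').map N'.subtype := by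
      have e1 := Core.sylow_sup_eq_top_of_isPGroup_quotient Q (K.subgroupOf N') (by
        intro y
        obtain ⟨y, rfl⟩ := QuotientGroup.mk_surjective y
        refine ⟨1, ?_⟩
        rw [← QuotientGroup.mk_pow, QuotientGroup.eq_one_iff, pow_one, mem_subgroupOf,
          ← QuotientGroup.eq_one_iff, coe_pow, QuotientGroup.mk_pow]
        exact hE.2 _ y.2)
      have e2 := congrArg (map N'.subtype) e1
      rw [Subgroup.map_sup, ← MonoidHom.range_eq_map, range_subtype, subgroupOf_map_subtype] at e2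
      exact e2.ge.trans (sup_le le_sup_right (le_sup_of_le_left inf_le_left))
    refine broline_aux hχ N' Q hsup ?_ fun e => hN0 ?_
    · refine (comap_mono hNV).trans ?_
      rw [SolvStruct.comap_map_mk'_of_le K hlt.le]
    · have e1 : (Q : Subgroup N').map N'.subtype ≤ K := h1 ▸
        Core.le_fittingSubgroup (Q.isPGroup'.map _).isNilpotent
      rw [← SolvStruct.map_comap_mk' K N, SolvStruct.map_mk'_eq_bot_iff]
      exact hsup.trans (sup_le le_rfl e1)

theorem exists_max_deg [Finite G] : ∃ χ, IsIrrCharacter G χ ∧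
    ∀ ψ, IsIrrCharacter G ψ → charDegree ψ ≤ charDegree χ := by
  have := finite_irr (G := G)
  have : Nonempty (IrrCharacter G) := ⟨irrOne G⟩
  obtain ⟨χ, hχ⟩ := Finite.exists_max (fun χ : IrrCharacter G => charDegree (χ : G → ℂ))
  exact ⟨χ, χ.2, fun ψ hψ => hχ ⟨ψ, hψ⟩⟩

/-- Characters of `G / F(G)` never have the largest degree, for solvable non-nilpotent `G`. -/
theorem exists_deg_lt_of_fitting_le [Finite G] [Group.IsSolvable G] (hF : fittingSubgroup G ≠ ⊤)
    {χ : G → ℂ} (hχ : IsIrrCharacter G χ) (h : fittingSubgroup G ≤ cker χ) :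
    ∃ ψ, IsIrrCharacter G ψ ∧ charDegree χ < charDegree ψ := by
  obtain ⟨ψ, h1, h2, -⟩ := broline_garrison hχ (by
    by_cases e : cker χ ≤ fittingSubgroup G
    · exact Or.inr ⟨le_antisymm e h, inferInstance, fun e' => hF (eq_top_iff.2 (e' ▸ e))⟩
    · exact Or.inl e)
  exact ⟨ψ, h1, h2⟩

/-- Garrison, Isaacs 12.21. -/
theorem garrison (n : ℕ) (G : Type u) [Group G] [Finite G] [Group.IsSolvable G] (S : Finset ℕ)
    (hS : ∀ χ, IsIrrCharacter G χ → charDegree χ ∈ S) (hn : S.card ≤ n) :
    ∃ N : ℕ → Subgroup G, N 0 = ⊥ ∧ N n = ⊤ ∧ Monotone N ∧ (∀ i, (N i).Normal) ∧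
      ∀ i, ∃ k, (N (i + 1)).lowerCentralSeries k ≤ N i := by
  classical
  induction n generalizing G S with
  | zero =>
    have := hS _ isIrr_one
    rw [Nat.le_zero, Finset.card_eq_zero] at hn
    simp [hn] at this
  | succ n ih =>
    have := Core.fittingSubgroup_normal G
    obtain ⟨k₀, hk₀⟩ := (isNilpotent_iff_lowerCentralSeries _).1 (Core.isNilpotent_fittingSubgroup G)
    by_cases hF : fittingSubgroup G = ⊤
    · refine ⟨fun i => if i = 0 then ⊥ else ⊤, by simp, by simp, ?_, ?_, ?_⟩
      · intro i j hij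
        by_cases hi : i = 0
        · simp [hi]
        · simp [hi, show j ≠ 0 by omega]
      · intro i
        dsimp only
        split_ifs <;> infer_instance
      · intro i
        refine ⟨k₀, ?_⟩
        simp only [Nat.add_eq_zero_iff, one_ne_zero, and_false, if_false]
        rw [← hF, hk₀]
        exact bot_le
    obtain ⟨χ, hχ, hmax⟩ := exists_max_deg (G := G)
    obtain ⟨N, h0, h1, h2, h3, h4⟩ := ih (G ⧸ fittingSubgroup G) (S.erase (charDegree χ))
      (fun β hβ => by
        have e1 := hS _ (isIrr_infl _ hβ)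
        obtain ⟨ψ, hψ, e2⟩ := exists_deg_lt_of_fitting_le hF (isIrr_infl _ hβ)
          (le_cker_infl _ (isCharacter_of_isIrr hβ))
        rw [deg_infl] at e1 e2
        exact Finset.mem_erase.2 ⟨(e2.trans_le (hmax ψ hψ)).ne, e1⟩)
      (by rw [Finset.card_erase_of_mem (hS χ hχ)]; omega)
    refine ⟨fun i => Nat.casesOn i ⊥ fun j => (N j).comap (QuotientGroup.mk' _), rfl, ?_, ?_, ?_, ?_⟩
    · simp [h1]
    · refine monotone_nat_of_le_succ fun i => ?_
      cases i with
      | zero => exact bot_le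
      | succ i => exact comap_mono (h2 (Nat.le_succ i))
    · intro i
      cases i with
      | zero => exact normal_bot
      | succ i => exact (h3 i).comap _
    · intro i
      cases i with
      | zero =>
        refine ⟨k₀, ?_⟩
        simp only [h0, MonoidHom.comap_bot, QuotientGroup.ker_mk', hk₀]
        exact bot_le
      | succ i =>
        obtain ⟨k, hk⟩ := h4 i
        refine ⟨k, ?_⟩
        change ((N (i + 1)).comap _).lowerCentralSeries k ≤ (N i).comap _
        rw [← map_le_iff_le_comap, map_lowerCentralSeries, SolvStruct.map_comap_mk']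
        exact hk

end CfsgLib.ChDeg
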