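import Mathlib
import Cfsg.Agent.Lib.ChDeg.Ito
import Cfsg.Agent.Lib.Coprime.Sylow

/-! When does a Sylow `p`-subgroup normalize a Sylow `q`-subgroup? -/

set_option autoImplicit false

universe u

namespace CfsgLib.ChDeg

open Cfsg Subgroup

variable {G : Type u} [Group G] [Finite G] {p q : ℕ}

theorem relIndex_sup_of_normal (H N : Subgroup G) [N.Normal] :
    H.relIndex (H ⊔ N) = H.relIndex N := by
  have h1 := Core.card_sup_mul_card_inf_of_normal H N
  rw [← Core.card_mul_relIndex_of_le (le_sup_left : H ≤ H ⊔ N), ← Core.card_inf_mul_relIndex H N,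
    mul_assoc, mul_comm (H.relIndex _)] at h1
  exact Nat.eq_of_mul_eq_mul_left Nat.card_pos (Nat.eq_of_mul_eq_mul_left Nat.card_pos h1)

theorem index_eq_relIndex_mul_index_map (H N : Subgroup G) [N.Normal] :
    H.index = H.relIndex N * (H.map (QuotientGroup.mk' N)).index := by
  rw [index_map, QuotientGroup.ker_mk', QuotientGroup.range_mk', index_top, mul_one,
    ← relIndex_sup_of_normal, relIndex_mul_index le_sup_left]

omit [Finite G] in
theorem relIndex_dvd_card_right (H N : Subgroup G) : H.relIndex N ∣ Nat.card N :=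
  index_dvd_card _

/-- Frattini argument. -/
theorem not_dvd_index_normalizer [hp : Fact p.Prime] [Fact q.Prime] (N : Subgroup G) [N.Normal]
    (hN : (Nat.card N).Coprime p) (Q : Sylow q G) (h : (Q : Subgroup G) ≤ N) :
    ¬ p ∣ (normalizer ((Q : Subgroup G) : Set G)).index := by
  have : normalizer ((Q : Subgroup G) : Set G) ⊔ N = ⊤ := Sylow.normalizer_sup_eq_top' Q h
  rw [← relIndex_top_right, ← this, relIndex_sup_of_normal]
  exact fun e => hp.out.coprime_iff_not_dvd.mp hN.symm (e.trans (relIndex_dvd_card_right _ _))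

theorem mem_pPrimeCore_of_centralizes [hp : Fact p.Prime] (hG : IsPSolvable p G) {y : G}
    (hy : (orderOf y).Coprime p) (P : Sylow p G)
    (h : ∀ x ∈ (P : Subgroup G), 
      (x : G ⧸ pPrimeCore p G) ∈ pCore p _ → (x * y * x⁻¹ * y⁻¹ : G) ∈ pPrimeCore p G) :
    y ∈ pPrimeCore p G := by
  set N := pPrimeCore p G
  have h1 : (y : G ⧸ N) ∈ pCore p (G ⧸ N) := by
    refine PLocal.PSolv.centralizer_pCore_le (PLocal.PSolv.quotient hG N)
      (Core.pPrimeCore_quotient_pPrimeCore p G) fun z hz => ?_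
    obtain ⟨x, hx, rfl⟩ := Core.pCore_le_sylow
      (P.mapSurjective (QuotientGroup.mk'_surjective N)) hz
    have := (QuotientGroup.eq_one_iff _).mpr (h x hx hz)
    simp only [QuotientGroup.mk_mul, QuotientGroup.mk_inv] at this
    rwa [mul_inv_eq_one, mul_inv_eq_iff_eq_mul] at this
  obtain ⟨k, hk⟩ := Core.isPGroup_subgroup_iff.mp (Core.isPGroup_pCore p _) _ h1
  refine SolvStruct.mem_of_pow_mem_of_coprime (a := orderOf y) (b := p ^ k) (by simp) ?_
    (hy.pow_right k)
  rwa [← QuotientGroup.eq_one_iff, QuotientGroup.mk_pow]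

theorem le_pPrimeCore_of_normalizes [hp : Fact p.Prime] (hG : IsPSolvable p G) (P : Sylow p G)
    {Q : Subgroup G} (hQ : (Nat.card Q).Coprime p)
    (h : (P : Subgroup G) ≤ normalizer (Q : Set G)) : Q ≤ pPrimeCore p G := fun y hy => by
  refine mem_pPrimeCore_of_centralizes hG (Core.subgroup_coprime_card_iff.mp hQ y hy) P
    fun x hx hx' => ?_
  have h1 : x * y * x⁻¹ * y⁻¹ ∈ Q := Q.mul_mem ((h hx y).mp hy) (Q.inv_mem hy)
  have h2 : ((x * y * x⁻¹ * y⁻¹ : G) : G ⧸ pPrimeCore p G) ∈ pCore p _ := by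
    have := (pCore p _).mul_mem hx' ((inferInstance : (pCore p (G ⧸ pPrimeCore p G)).Normal).conj_mem
      _ ((pCore p _).inv_mem hx') (y : G ⧸ pPrimeCore p G))
    simpa [mul_assoc] using this
  obtain ⟨k, hk⟩ := Core.isPGroup_subgroup_iff.mp (Core.isPGroup_pCore p _) _ h2
  refine SolvStruct.mem_of_pow_mem_of_coprime (a := orderOf (x * y * x⁻¹ * y⁻¹)) (b := p ^ k)
    (by simp) ?_ ((Core.subgroup_coprime_card_iff.mp hQ _ h1).pow_right k)
  rwa [← QuotientGroup.eq_one_iff, QuotientGroup.mk_pow]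

theorem coprime_card_of_isPGroup [hp : Fact p.Prime] [hq : Fact q.Prime] (hpq : p ≠ q)
    {Q : Type*} [Group Q] [Finite Q] (hQ : IsPGroup q Q) : (Nat.card Q).Coprime p :=
  Core.isPGroup_coprime_card hQ ((Nat.coprime_primes hp.out hq.out).mpr hpq)

end CfsgLib.ChDeg
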