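import Mathlib
import Cfsg.Agent.Lib.ChDeg.TwoDeg

/-! Groups with at most three character degrees have derived length at most three
(Isaacs 12.15). -/

set_option autoImplicit false

universe u

namespace CfsgLib.ChDeg

open Cfsg CfsgLib.Char CfsgLib.CharDeep Subgroup
open scoped commutatorElement ComplexConjugate

variable {G : Type u} [Group G]

/-- The derived series of a subgroup, inside the ambient group. -/
def dS (M : Subgroup G) (k : ℕ) : Subgroup G := (derivedSeries M k).map M.subtype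

theorem dS_zero (M : Subgroup G) : dS M 0 = M := by
  rw [dS, derivedSeries_zero, ← MonoidHom.range_eq_map, subtype_range]

theorem dS_succ (M : Subgroup G) (k : ℕ) : dS M (k + 1) = ⁅dS M k, dS M k⁆ := by
  rw [dS, derivedSeries_succ, map_commutator]; rfl

theorem dS_one (M : Subgroup G) : dS M 1 = ⁅M, M⁆ := by rw [dS_succ, dS_zero]

theorem dS_eq_bot_iff (M : Subgroup G) (k : ℕ) : dS M k = ⊥ ↔ derivedSeries M k = ⊥ := by
  rw [dS, map_eq_bot_iff_of_injective _ M.subtype_injective]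

theorem derivedSeries_le_dS {M : Subgroup G} {i j : ℕ} (h : derivedSeries G i ≤ dS M j) (k : ℕ) :
    derivedSeries G (i + k) ≤ dS M (j + k) := by
  induction k with
  | zero => exact h
  | succ k ih =>
    rw [← add_assoc, ← add_assoc, derivedSeries_succ, dS_succ]
    exact commutator_mono ih ih

theorem exists_linear_constituent [Fintype G] {m n : ℕ} (hcop : m.Coprime n) (hmn : m < n)
    (hcd : ∀ χ, IsIrrCharacter G χ → charDegree χ = 1 ∨ charDegree χ = m ∨ charDegree χ = n)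
    {χ χ' ψ : G → ℂ} (hχ : IsIrrCharacter G χ) (hχ' : IsIrrCharacter G χ')
    (hψ : IsIrrCharacter G ψ) (hd : charDegree χ = m) (hd' : charDegree χ' = m)
    (hdψ : charDegree ψ = n) (h : classInner (χ * χ') ψ ≠ 0) :
    ∀ g ∈ _root_.commutator G, χ' g = conj (χ g) := by
  have hc := isCharacter_mul (isCharacter_of_isIrr hχ) (isCharacter_of_isIrr hχ')
  have : ∃ l, IsIrrCharacter G l ∧ classInner (χ * χ') l ≠ 0 ∧ charDegree l = 1 := by
    by_contra hn
    push Not at hn
    obtain ⟨a, b, hab, -, hb⟩ := exists_deg_split hc hmn.ne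
      (fun l hl hi => (hcd l hl).resolve_left (hn l hl hi))
    have hb0 := hb ψ hψ h hdψ
    rw [deg_mul (isCharacter_of_isIrr hχ) (isCharacter_of_isIrr hχ'), hd, hd'] at hab
    have h1 : m ∣ b * n := (Nat.dvd_add_right (dvd_mul_left m a)).1 (hab ▸ dvd_mul_left m m)
    have h2 := Nat.le_of_dvd hb0 (hcop.dvd_of_dvd_mul_right h1)
    have hm0 : 0 < m := hd ▸ deg_pos hχ
    nlinarith
  obtain ⟨l, hl, hi, hl1⟩ := this
  rw [classInner_mul_swap] at hi
  have hlc := isCharacter_of_isIrr hl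
  have h1 := isIrr_mul_of_one_eq_one (isIrr_conj hχ) hlc ((deg_eq_one_iff hlc).1 hl1)
  have h2 := irr_eq_of_classInner_ne_zero hχ' h1 hi
  intro g hg
  rw [h2]
  simp only [Pi.mul_apply]
  rw [(mem_cker hlc).1 ((deg_eq_one_iff_commutator_le hl).1 hl1 hg),
    (deg_eq_one_iff hlc).1 hl1, mul_one]

theorem inner_mul_eq_zero_of_perfect [Fintype G] {m n : ℕ} (hcop : m.Coprime n) (hmn : m < n)
    (hm1 : m ≠ 1)
    (hcd : ∀ χ, IsIrrCharacter G χ → charDegree χ = 1 ∨ charDegree χ = m ∨ charDegree χ = n)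
    (hperf : _root_.commutator G ≤ ⁅_root_.commutator G, _root_.commutator G⁆)
    {χ χ' ψ : G → ℂ} (hχ : IsIrrCharacter G χ) (hχ' : IsIrrCharacter G χ')
    (hψ : IsIrrCharacter G ψ) (hd : charDegree χ = m) (hd' : charDegree χ' = m)
    (hdψ : charDegree ψ = n) : classInner (χ * χ') ψ = 0 := by
  classical
  by_contra h
  set N := _root_.commutator G with hN
  have hχc := isCharacter_of_isIrr hχ
  have hψc := isCharacter_of_isIrr hψ
  have hm0 : 0 < m := hd ▸ deg_pos hχ
  set Θ : G → ℂ := fun g => conj (χ g) * ψ g with hΘ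
  have hΘc : IsCharacter G Θ := isCharacter_mul (isCharacter_conj hχc) hψc
  have hΘd : charDegree Θ = m * n := by
    rw [← hd, ← hdψ, ← deg_conj χ hχc]
    exact deg_mul (isCharacter_conj hχc) hψc
  have hswap : ∀ ξ, IsIrrCharacter G ξ → classInner Θ ξ ≠ 0 → classInner (χ * ξ) ψ ≠ 0 := by
    intro ξ _ hi e
    rw [hΘ, classInner_conj_mul_swap] at hi
    exact hi (classInner_eq_zero_symm e)
  have hnl : ∀ ξ, IsIrrCharacter G ξ → classInner Θ ξ ≠ 0 → charDegree ξ ≠ 1 := by
    intro ξ hξ hi e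
    have hξc := isCharacter_of_isIrr hξ
    have h1 := isIrr_mul_of_one_eq_one hχ hξc ((deg_eq_one_iff hξc).1 e)
    have h2 := irr_eq_of_classInner_ne_zero h1 hψ (hswap ξ hξ hi)
    rw [← h2, deg_mul hχc hξc, hd, e, mul_one] at hdψ
    exact hmn.ne hdψ
  obtain ⟨a, b, hab, ha, hb⟩ := exists_deg_split hΘc hmn.ne
    (fun l hl hi => (hcd l hl).resolve_left (hnl l hl hi))
  have ha0 : 0 < a := ha χ' hχ' (by
    rw [classInner_mul_swap] at h
    exact fun e => h (classInner_eq_zero_symm e)) hd'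
  rw [hΘd] at hab
  have h1 : n ∣ a * m := (Nat.dvd_add_left (dvd_mul_left n b)).1 (hab ▸ dvd_mul_left n m)
  have h2 := Nat.le_of_dvd ha0 (hcop.symm.dvd_of_dvd_mul_right h1)
  have hb0 : b = 0 := by
    by_contra hb0
    have : 1 ≤ b := Nat.one_le_iff_ne_zero.2 hb0
    nlinarith
  have hX : ∀ ξ, IsIrrCharacter G ξ → classInner Θ ξ ≠ 0 → ∀ g ∈ N, ξ g = conj (χ g) := by
    intro ξ hξ hi
    have h3 : charDegree ξ = m := by
      rcases hcd ξ hξ with e | e | e
      · exact absurd e (hnl ξ hξ hi)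
      · exact e
      · exact absurd (hb ξ hξ hi e) (by omega)
    exact exists_linear_constituent hcop hmn hcd hχ hξ hψ hd h3 hdψ (hswap ξ hξ hi)
  obtain ⟨c, hc, hs⟩ := exists_char_eq_sum_nat hΘc
  have hval : ∀ g ∈ N, Θ g = (∑ ξ : IrrCharacter G, (c ξ : ℂ)) * conj (χ g) := by
    intro g hg
    rw [hs, Finset.sum_apply, Finset.sum_mul]
    refine Finset.sum_congr rfl fun ξ _ => ?_
    by_cases h0 : c ξ = 0
    · simp [h0]
    · rw [Pi.smul_apply, smul_eq_mul, hX ξ ξ.2 (by rw [hc]; exact_mod_cast h0) g hg]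
  have hker : ∀ g ∈ N, χ g ≠ 0 → g ∈ cker ψ := by
    intro g hg h0
    have e1 := hval g hg
    have e2 := hval 1 N.one_mem
    simp only [hΘ] at e1 e2
    rw [mul_comm] at e1 e2
    rw [mem_cker hψc, mul_right_cancel₀ (by simpa using h0) e1,
      mul_right_cancel₀ (by simpa using irr_one_ne_zero hχ) e2]
  set K := cker ψ ⊓ N with hK
  have := Fintype.ofFinite K
  have := Fintype.ofFinite N
  have := Fintype.ofFinite (K.subgroupOf N)
  obtain ⟨r, hr, hrd⟩ := exists_norm_res_dvd K hχ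
  obtain ⟨s, hs⟩ := exists_classInner_eq_nat (isCharacter_restrict N hχc)
    (isCharacter_restrict N hχc)
  have h3 := classInner_res_of_vanish (K.subgroupOf N) (f := fun g : N => χ g)
    (fun g hg => by
      by_contra h0
      exact hg ⟨hker g g.2 h0, g.2⟩) (fun g : N => χ g)
  have h4 := classInner_comp_mulEquiv (subgroupOfEquivOfLe (inf_le_right : K ≤ N))
    (fun k : K => χ k) (fun k : K => χ k)
  have h5 : (r : ℂ) = (K.subgroupOf N).index * s := by rw [← hr, ← h4, ← hs, ← h3]; rfl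
  have h6 : (K.subgroupOf N).index ∣ m ^ 2 := by
    have : r = (K.subgroupOf N).index * s := by exact_mod_cast h5
    exact (Dvd.intro _ this.symm).trans (hd ▸ hrd)
  have h7 : ⁅N, N⁆ ≤ cker ψ := by
    rw [← map_subtype_commutator, map_le_iff_le_comap]
    intro x hx
    change x ∈ (cker ψ).subgroupOf N
    rw [← cker_res N hψc]
    refine mem_cker_of_forall (isCharacter_restrict N hψc) fun φ hφ hi => ?_
    refine (deg_eq_one_iff_commutator_le hφ).1 ?_ hx
    have e1 := deg_dvd_of_over N hψ hφ hi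
    have e2 := deg_dvd_index_of_le_cker hφ (K.subgroupOf N) (le_trans (by
      rw [cker_res N hψc]; exact fun y hy => hy.1)
      (cker_le_of_inner_ne_zero (isCharacter_restrict N hψc) hφ hi))
    exact Nat.eq_one_of_dvd_coprimes (hcop.pow_left 2) (e2.trans h6) (hdψ ▸ e1)
  have := (deg_eq_one_iff_commutator_le hψ).2 (hperf.trans h7)
  omega

theorem not_perfect_of_three_deg [Finite G] {m n : ℕ} (hcop : m.Coprime n) (hmn : m < n)
    (hm1 : m ≠ 1)
    (hcd : ∀ χ, IsIrrCharacter G χ → charDegree χ = 1 ∨ charDegree χ = m ∨ charDegree χ = n)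
    {χ : G → ℂ} (hχ : IsIrrCharacter G χ) (hd : charDegree χ = m) :
    ¬ _root_.commutator G ≤ ⁅_root_.commutator G, _root_.commutator G⁆ := by
  intro hperf
  have := Fintype.ofFinite G
  have hχc := isCharacter_of_isIrr hχ
  have key : ∀ k : ℕ, ∀ ψ, IsIrrCharacter G ψ → classInner (χ ^ k) ψ ≠ 0 →
      charDegree ψ = 1 ∨ charDegree ψ = m := by
    intro k
    induction k with
    | zero =>
      intro ψ hψ hi
      rw [pow_zero] at hi
      rw [← irr_eq_of_classInner_ne_zero isIrr_one hψ hi]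
      exact Or.inl deg_one
    | succ k ih =>
      intro ψ hψ hi
      rw [pow_succ] at hi
      obtain ⟨ξ, hξ, h1, h2⟩ := exists_constituent_of_mul (isCharacter_pow hχc k) hi
      have hξc := isCharacter_of_isIrr hξ
      rcases ih ξ hξ h1 with e | e
      · rw [mul_comm] at h2
        rw [← irr_eq_of_classInner_ne_zero (isIrr_mul_of_one_eq_one hχ hξc
          ((deg_eq_one_iff hξc).1 e)) hψ h2, deg_mul hχc hξc, e, hd, mul_one]
        exact Or.inr rfl
      · rcases hcd ψ hψ with e' | e' | e'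
        · exact Or.inl e'
        · exact Or.inr e'
        · exact absurd (inner_mul_eq_zero_of_perfect hcop hmn hm1 hcd hperf hξ hχ hψ e hd e') h2
  have h1 : derivedSeries (G ⧸ cker χ) 2 = ⊥ := by
    refine derived_two_of_two_deg (m := m) fun β hβ => ?_
    obtain ⟨k, hk⟩ := exists_pow_inner_ne_zero hχc (isIrr_infl _ hβ)
      (le_cker_infl _ (isCharacter_of_isIrr hβ))
    have := key k _ (isIrr_infl _ hβ) hk
    rwa [deg_infl] at this
  rw [derivedSeries_quotient_eq_bot_iff, derivedSeries_succ, derivedSeries_one] at h1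
  exact hm1 (hd ▸ (deg_eq_one_iff_commutator_le hχ).2 (hperf.trans h1))

theorem CaseA.false_of_coprime [Finite G] {K Z : Subgroup G} [K.Normal] {p : ℕ} {χ ψ : G → ℂ}
    (h : CaseA G K p Z χ) (hψ : IsIrrCharacter G ψ) (hp : ¬ p ∣ charDegree ψ) :
    IsIrrCharacter G (χ * ψ) := by
  have := Fintype.ofFinite G
  obtain ⟨⟨k, hk⟩, -⟩ := h.deg_pow
  obtain ⟨hpp, -, -, -, -, -, hχ, -, hker, -⟩ := h
  refine gallagher_isIrr K (isCharacter_of_isIrr hψ) (isIrr_res_of_coprime K hψ ?_) hχ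
    fun n hn => (mem_cker (isCharacter_of_isIrr hχ)).1 (hker ▸ hn)
  rw [hk]
  exact ((Nat.Prime.coprime_iff_not_dvd hpp).2 hp).symm.pow_right _

theorem CaseB.two_deg_of_three_deg [Finite G] {m n : ℕ} (hcop : m.Coprime n)
    (hcd : ∀ χ, IsIrrCharacter G χ → charDegree χ = 1 ∨ charDegree χ = m ∨ charDegree χ = n)
    {K N : Subgroup G} {p : ℕ} (h : CaseB G K p N) (hm : N.index = m) (ψ : N → ℂ)
    (hψ : IsIrrCharacter N ψ) : charDegree ψ = 1 ∨ charDegree ψ = n := by
  have h' := h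
  obtain ⟨hp, hN, -, -, -, hnd, h1, -⟩ := h'
  rcases h.dvd_deg hψ with ⟨ξ, hξ, e⟩ | e
  · rcases hcd ξ hξ with e' | e' | e'
    · exact Or.inl (Nat.eq_one_of_mul_eq_one_left (e.symm.trans e'))
    · rw [e, ← hm] at e'
      exact Or.inl ((Nat.mul_eq_left N.index_ne_zero_of_finite).1 e')
    · exact absurd (Nat.eq_one_of_dvd_coprimes hcop (hm ▸ dvd_rfl)
        (Dvd.intro _ (e.symm.trans e'))) h1
  · obtain ⟨ξ, hξ, f, hf1, hf⟩ := exists_deg_dvd_of_normal N hψ
    have : p ∣ charDegree ξ := hf ▸ e.mul_left f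
    rcases hcd ξ hξ with e' | e' | e'
    · exact absurd (e' ▸ this) hp.not_dvd_one
    · exact absurd (hm ▸ e' ▸ this) hnd
    · have : f = 1 := Nat.eq_one_of_dvd_coprimes hcop (hm ▸ hf1) (Dvd.intro _ (hf.symm.trans e'))
      rw [this, one_mul] at hf
      exact Or.inr (hf.symm.trans e')

theorem derived_three_of_coprime [Finite G] {m n : ℕ} (hcop : m.Coprime n)
    (hcd : ∀ χ, IsIrrCharacter G χ → charDegree χ = 1 ∨ charDegree χ = m ∨ charDegree χ = n) :
    derivedSeries G 3 = ⊥ := by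
  wlog hmn : m ≤ n generalizing m n
  · exact this hcop.symm (fun χ hχ => by have := hcd χ hχ; tauto) (by omega)
  have h2 : ∀ k, (∀ χ, IsIrrCharacter G χ → charDegree χ = 1 ∨ charDegree χ = k) →
      derivedSeries G 3 = ⊥ := fun k hk =>
    eq_bot_iff.2 ((derivedSeries_antitone G (by omega : 2 ≤ 3)).trans (derived_two_of_two_deg hk).le)
  by_cases hm : m ≠ 1 ∧ ∃ χ, IsIrrCharacter G χ ∧ charDegree χ = m
  swap
  · refine h2 n fun χ hχ => ?_
    rcases hcd χ hχ with e | e | e
    · exact Or.inl e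
    · by_contra hc
      push Not at hc
      exact hm ⟨e ▸ hc.1, χ, hχ, e⟩
    · exact Or.inr e
  by_cases hn : n ≠ m ∧ ∃ χ, IsIrrCharacter G χ ∧ charDegree χ = n
  swap
  · refine h2 m fun χ hχ => ?_
    rcases hcd χ hχ with e | e | e
    · exact Or.inl e
    · exact Or.inr e
    · by_contra hc
      push Not at hc
      exact hn ⟨e ▸ hc.2, χ, hχ, e⟩
  obtain ⟨hm1, χ, hχ, hd⟩ := hm
  obtain ⟨hnm, ψ, hψ, hdψ⟩ := hn
  have hm0 : 0 < m := hd ▸ deg_pos hχ
  have hlt : m < n := by omega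
  have h3 := not_perfect_of_three_deg hcop hlt hm1 hcd hχ hd
  have : Group.IsSolvable (G ⧸ ⁅_root_.commutator G, _root_.commutator G⁆) :=
    ⟨⟨2, by rw [derivedSeries_quotient_eq_bot_iff, derivedSeries_succ, derivedSeries_one]⟩⟩
  obtain ⟨K, hK, -, -, ⟨p, Z, ξ, h⟩ | ⟨p, N, h⟩⟩ := exists_cases _ h3
  · exfalso
    obtain ⟨-, e, he0, he⟩ := h.deg_pow
    have hpd : p ∣ charDegree ξ := he ▸ dvd_pow_self p he0.ne'
    have h' := h
    obtain ⟨hp, -, -, -, -, -, hξ, hξ1, -⟩ := h'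
    have key : ∀ φ, IsIrrCharacter G φ → ¬ p ∣ charDegree φ →
        charDegree ξ * charDegree φ = m * n → False := by
      intro φ hφ hnd e
      have := hcd _ (h.false_of_coprime hφ hnd)
      rw [deg_mul (isCharacter_of_isIrr hξ) (isCharacter_of_isIrr hφ), e] at this
      have : 2 ≤ m := by omega
      rcases ‹m * n = 1 ∨ _› with e | e | e <;> nlinarith
    rcases (hcd ξ hξ).resolve_left hξ1 with e | e
    · refine key ψ hψ (fun h => hp.one_lt.ne' ?_) (by rw [e, hdψ])
      exact Nat.eq_one_of_dvd_coprimes hcop (e ▸ hpd) (hdψ ▸ h)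
    · refine key χ hχ (fun h => hp.one_lt.ne' ?_) (by rw [e, hd, mul_comm])
      exact Nat.eq_one_of_dvd_coprimes hcop (hd ▸ h) (e ▸ hpd)
  · have h' := h
    obtain ⟨-, hN, -, hGN, -, -, h1, -, -, -, ⟨ξ, hξ, -, hξd⟩, -⟩ := h'
    have h4 : derivedSeries N 2 = ⊥ := by
      rcases hcd ξ hξ with e | e | e
      · exact absurd (hξd.symm.trans e) h1
      · exact derived_two_of_two_deg (h.two_deg_of_three_deg hcop hcd (hξd.symm.trans e))
      · exact derived_two_of_two_deg (h.two_deg_of_three_deg hcop.symm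
          (fun χ hχ => by have := hcd χ hχ; tauto) (hξd.symm.trans e))
    rw [← dS_eq_bot_iff] at h4
    have h5 := derivedSeries_le_dS (M := N) (i := 1) (j := 0)
      (by rwa [derivedSeries_one, dS_zero]) 2
    exact eq_bot_iff.2 (h5.trans h4.le)

theorem exists_part (S : Finset ℕ) (m : ℕ) : ∃ m', m' ∣ m ∧ (∀ q, q.Prime → q ∣ m' → q ∉ S) ∧
    ∀ e d, m ≠ 0 → m = e * d → (∀ q, q.Prime → q ∣ e → q ∈ S) → (∀ q, q.Prime → q ∣ d → q ∉ S) →
      d = m' := by
  by_cases h : ∃ e d, m = e * d ∧ (∀ q, q.Prime → q ∣ e → q ∈ S) ∧ (∀ q, q.Prime → q ∣ d → q ∉ S)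
  · obtain ⟨e, d, h1, h2, h3⟩ := h
    refine ⟨d, Dvd.intro_left _ h1.symm, h3, fun e' d' _ h1' h2' h3' => Nat.dvd_antisymm ?_ ?_⟩
    · refine Nat.Coprime.dvd_of_dvd_mul_left (m := e) ?_ (h1 ▸ Dvd.intro_left _ h1'.symm)
      exact Nat.coprime_of_dvd fun q hq a b => h3' q hq a (h2 q hq b)
    · refine Nat.Coprime.dvd_of_dvd_mul_left (m := e') ?_ (h1' ▸ Dvd.intro_left _ h1.symm)
      exact Nat.coprime_of_dvd fun q hq a b => h3 q hq a (h2' q hq b)
  · refine ⟨1, one_dvd _, fun q hq e => absurd e hq.not_dvd_one, fun e d _ h1 h2 h3 => ?_⟩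
    exact absurd ⟨e, d, h1, h2, h3⟩ h

theorem deg_dvd_index_of_commutator_le_cker [Finite G] {χ : G → ℂ} (hχ : IsIrrCharacter G χ)
    (M : Subgroup G) [M.Normal] (h : ⁅M, M⁆ ≤ cker χ) : charDegree χ ∣ M.index := by
  have := Fintype.ofFinite M
  obtain ⟨θ, hθ, hi⟩ := exists_irr_under M hχ
  have h1 := cker_le_of_inner_ne_zero (isCharacter_restrict M (isCharacter_of_isIrr hχ)) hθ hi
  rw [cker_res M (isCharacter_of_isIrr hχ)] at h1
  have h2 : charDegree θ = 1 := by
    rw [deg_eq_one_iff_commutator_le hθ]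
    refine le_trans ?_ h1
    change _ ≤ (cker χ).comap M.subtype
    rw [← map_le_iff_le_comap, map_subtype_commutator]
    exact h
  have := deg_dvd_index_mul M hχ hθ hi
  rwa [h2, mul_one] at this

/-- Isaacs 12.15. -/
theorem derived_three_of_three_deg [Finite G] {m n : ℕ}
    (hcd : ∀ χ, IsIrrCharacter G χ → charDegree χ = 1 ∨ charDegree χ = m ∨ charDegree χ = n) :
    derivedSeries G 3 = ⊥ := by
  classical
  have := Fintype.ofFinite G
  rcases eq_or_ne m 0 with rfl | hm0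
  · refine derived_three_of_coprime (Nat.coprime_one_left n) fun χ hχ => ?_
    have := hcd χ hχ; have := deg_pos hχ; omega
  rcases eq_or_ne n 0 with rfl | hn0
  · refine derived_three_of_coprime (Nat.coprime_one_left m) fun χ hχ => ?_
    have := hcd χ hχ; have := deg_pos hχ; omega
  set S := (Nat.gcd m n).primeFactors with hS
  obtain ⟨M, hM, h1, h2, h3⟩ := exists_normal_pi_complement (G := G) S
    (fun p hp => Nat.prime_of_mem_primeFactors hp) (fun p hp χ hχ h => by
      have := Nat.dvd_of_mem_primeFactors hp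
      rcases (hcd χ hχ).resolve_left h with e | e
      · exact e ▸ this.trans (Nat.gcd_dvd_left m n)
      · exact e ▸ this.trans (Nat.gcd_dvd_right m n))
  obtain ⟨m', hm1, hm2, hm3⟩ := exists_part S m
  obtain ⟨n', hn1, hn2, hn3⟩ := exists_part S n
  have hcop : m'.Coprime n' := Nat.coprime_of_dvd fun q hq a b => hm2 q hq a
    (Nat.mem_primeFactors.2 ⟨hq, Nat.dvd_gcd (a.trans hm1) (b.trans hn1),
      Nat.gcd_ne_zero_left hm0⟩)
  have hcdM : ∀ θ : M → ℂ, IsIrrCharacter M θ →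
      charDegree θ = 1 ∨ charDegree θ = m' ∨ charDegree θ = n' := by
    intro θ hθ
    obtain ⟨χ, hχ, e, he1, he⟩ := exists_deg_dvd_of_normal M hθ
    have a1 : ∀ q, q.Prime → q ∣ e → q ∈ S := fun q hq a => h2 q hq (a.trans he1)
    have a2 : ∀ q, q.Prime → q ∣ charDegree θ → q ∉ S :=
      fun q _ a b => h1 q b (a.trans (deg_dvd_card hθ))
    rcases hcd χ hχ with h | h | h
    · exact Or.inl (Nat.eq_one_of_mul_eq_one_left (he.symm.trans h))
    · exact Or.inr (Or.inl (hm3 e _ hm0 (h.symm.trans he) a1 a2))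
    · exact Or.inr (Or.inr (hn3 e _ hn0 (h.symm.trans he) a1 a2))
  have hq : ∀ β : G ⧸ ⁅M, M⁆ → ℂ, IsIrrCharacter _ β →
      charDegree β = 1 ∨ (charDegree β = m ∧ m' = 1) ∨ (charDegree β = n ∧ n' = 1) := by
    intro β hβ
    have a1 := deg_dvd_index_of_commutator_le_cker (isIrr_infl _ hβ) M
      (le_cker_infl _ (isCharacter_of_isIrr hβ))
    have a2 := hcd _ (isIrr_infl _ hβ)
    rw [deg_infl] at a1 a2
    rcases a2 with e | e | e
    · exact Or.inl e
    · exact Or.inr (Or.inl ⟨e, (hm3 m 1 hm0 (mul_one m).symm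
        (fun q hq a => h2 q hq (a.trans (e ▸ a1))) fun q hq a => absurd a hq.not_dvd_one).symm⟩)
    · exact Or.inr (Or.inr ⟨e, (hn3 n 1 hn0 (mul_one n).symm
        (fun q hq a => h2 q hq (a.trans (e ▸ a1))) fun q hq a => absurd a hq.not_dvd_one).symm⟩)
  have mixed : ∀ a b : ℕ, (∀ θ : M → ℂ, IsIrrCharacter M θ → charDegree θ = 1 ∨ charDegree θ = a) →
      (∀ β : G ⧸ ⁅M, M⁆ → ℂ, IsIrrCharacter _ β → charDegree β = 1 ∨ charDegree β = b) →
      derivedSeries G 3 = ⊥ := by
    intro a b ha hb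
    have e1 := derived_two_of_two_deg ha
    have e2 := derived_two_of_two_deg hb
    rw [← dS_eq_bot_iff] at e1
    rw [derivedSeries_quotient_eq_bot_iff, ← dS_one] at e2
    exact eq_bot_iff.2 ((derivedSeries_le_dS e2 1).trans e1.le)
  by_cases c1 : m' = 1 <;> by_cases c2 : n' = 1
  · have hA : ∀ a ∈ M, ∀ b ∈ M, a * b = b * a :=
      comm_of_forall_deg_eq_one' fun θ hθ => by have := hcdM θ hθ; omega
    have := taketa_card (monomial_of_comm_of_nilpotent M hA h3) {1, m, n}
      (fun χ hχ => by simpa using hcd χ hχ)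
    exact eq_bot_iff.2 ((derivedSeries_antitone G Finset.card_le_three).trans this.le)
  · exact mixed n' m (fun θ hθ => by have := hcdM θ hθ; omega)
      (fun β hβ => by have := hq β hβ; tauto)
  · exact mixed m' n (fun θ hθ => by have := hcdM θ hθ; omega)
      (fun β hβ => by have := hq β hβ; tauto)
  · have e1 := derived_three_of_coprime hcop hcdM
    have e2 : derivedSeries (G ⧸ ⁅M, M⁆) 1 = ⊥ := by
      rw [derivedSeries_one, _root_.commutator_eq_bot_iff]
      exact ⟨⟨comm_of_forall_deg_eq_one fun β hβ => by have := hq β hβ; tauto⟩⟩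
    rw [← dS_eq_bot_iff] at e1
    rw [derivedSeries_quotient_eq_bot_iff, ← dS_one] at e2
    exact eq_bot_iff.2 ((derivedSeries_le_dS e2 2).trans e1.le)

end CfsgLib.ChDeg
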